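import Groth.Agent.ResProp.EF.Base
import Groth.Agent.ResProp.EF.K980.BC

/-!
# Descent data on an `R`-module give cartesian presheaves of modules (S16912, seam G4 / G5 → KernelDatum)

`A : NFᵒᵖ ⥤ CommRingCat`, `R = A⟨0⟩`; `vx A a i : R → A⟨a⟩` the vertices.  `Desc A K` : an isomorphism
`σ : BC (vx 0) K ≃ BC (vx 1) K` over `A⟨1⟩` with the cocycle identity over `A⟨2⟩`.

* `Desc.tp a i j` : transport `BC (vx i) K ≃ BC (vx j) K` over `A⟨a⟩`; `tp_self`, `tp_trans`, `pullE_tp` (natural);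
* `Desc.pm : PM A` with `pm.obj a = BC (vx A a 0) K`, `Desc.cart : pm.Cart`;
* `Desc.IsHom s s' f` (`f` commutes with `σ`), `Desc.IsHom.nat`;
* `Desc.sub`, `Desc.quot` : stable submodules and quotients.
-/

set_option autoImplicit false
set_option linter.dupNamespace false

open CategoryTheory Opposite

noncomputable section

namespace Groth.Agent.ResProp.EF.K959

open K784.BC K784.PM K741.RP EF56 K980 K980.BC

universe u v w

/-! ### base change maps are base changes -/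

section IsBC

variable {R R' R'' : Type u} [CommRing R] [CommRing R'] [CommRing R''] {x : R →+* R'} {x' : R →+* R''}
  {f : R' →+* R''} {M : Type u} [AddCommGroup M] [Module R M]

theorem isBC_bc (x : R →+* R') (M : Type u) [AddCommGroup M] [Module R M] :
    IsBC x ((bc x : M →ₛₗ[x] BC x M).toAddMonoidHom) := by
  refine IsBC.of_lift (fun a m => LinearMap.map_smulₛₗ (bc x) a m) fun Q _ _ g hg => ?_
  refine ⟨lift (σ := RingHom.id R') (τ := x) (RingHom.id_comp x) ⟨⟨g, map_add g⟩, hg⟩, fun m => lift_bc _ _ m, fun g' h => ?_⟩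
  refine hom_ext fun m => ?_
  rw [lift_bc]
  exact h m

theorem isBC_tr (hx : f.comp x = x') (M : Type u) [AddCommGroup M] [Module R M] :
    IsBC f ((tr f hx : BC x M →ₛₗ[f] BC x' M).toAddMonoidHom) := by
  subst hx
  refine (isBC_bc x M).of_comp (fun b n => LinearMap.map_smulₛₗ (tr f rfl) b n) ?_
  have h : ((tr f rfl : BC x M →ₛₗ[f] BC (f.comp x) M).toAddMonoidHom).comp
      ((bc x : M →ₛₗ[x] BC x M).toAddMonoidHom) =
      (bc (f.comp x) : M →ₛₗ[f.comp x] BC (f.comp x) M).toAddMonoidHom :=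
    AddMonoidHom.ext fun m => tr_bc rfl m
  rw [h]
  exact isBC_bc _ M

end IsBC

/-! ### vertices and edges -/

section Vert

variable (A : NFᵒᵖ ⥤ CommRingCat.{u})

/-- the vertices `R → A⟨a⟩` -/
abbrev vx (a : NF) (i : Fin (a.n + 1)) : A.obj (op ⟨0⟩) →+* A.obj (op a) := rg A (pt a i)

variable {A}

/-- the value of an arrow of `NF` at an index -/
abbrev at' {a b : NF} (φ : a ⟶ b) (i : Fin (b.n + 1)) : Fin (a.n + 1) :=
  (show Fin (b.n + 1) → Fin (a.n + 1) from φ) i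

theorem rg_vx {a b : NF} (φ : a ⟶ b) (i : Fin (b.n + 1)) {j : Fin (a.n + 1)} (h : at' φ i = j) :
    (rg A φ).comp (vx A b i) = vx A a j := by
  subst h
  rw [← rg_comp]
  rfl

/-- the edge `(i, j)` -/
def edge (a : NF) (i j : Fin (a.n + 1)) : a ⟶ (⟨1⟩ : NF) := (![i, j] : Fin 2 → Fin (a.n + 1))

/-- the triangle `(i, j, l)` -/
def tri (a : NF) (i j l : Fin (a.n + 1)) : a ⟶ (⟨2⟩ : NF) := (![i, j, l] : Fin 3 → Fin (a.n + 1))

theorem comp_edge {a b : NF} (φ : a ⟶ b) (i j : Fin (b.n + 1)) : φ ≫ edge b i j = edge a (at' φ i) (at' φ j) := by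
  funext l
  change at' φ (![i, j] l) = ![at' φ i, at' φ j] l
  fin_cases l <;> rfl

end Vert

/-! ### descent data -/

variable {A : NFᵒᵖ ⥤ CommRingCat.{u}}

/-- the pull-back of an isomorphism over `A⟨1⟩` along the edge `(i, j)` -/
def tpE {K : Type v} [AddCommGroup K] [Module (A.obj (op ⟨0⟩)) K]
    (σ : BC (vx A ⟨1⟩ 0) K ≃ₗ[A.obj (op ⟨1⟩)] BC (vx A ⟨1⟩ 1) K) (a : NF) (i j : Fin (a.n + 1)) :
    BC (vx A a i) K ≃ₗ[A.obj (op a)] BC (vx A a j) K :=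
  pullE (rg A (edge a i j)) (rg_vx (edge a i j) 0 rfl) (rg_vx (edge a i j) 1 rfl) σ

variable (A) in
/-- a descent datum on the `R`-module `K` -/
structure Desc (K : Type v) [AddCommGroup K] [Module (A.obj (op ⟨0⟩)) K] where
  σ : BC (vx A ⟨1⟩ 0) K ≃ₗ[A.obj (op ⟨1⟩)] BC (vx A ⟨1⟩ 1) K
  coc : (tpE σ ⟨2⟩ 0 1).trans (tpE σ ⟨2⟩ 1 2) = tpE σ ⟨2⟩ 0 2

section Pull

variable {K : Type v} [AddCommGroup K] [Module (A.obj (op ⟨0⟩)) K]
  (σ : BC (vx A ⟨1⟩ 0) K ≃ₗ[A.obj (op ⟨1⟩)] BC (vx A ⟨1⟩ 1) K)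

theorem tpE_bc (a : NF) (i j : Fin (a.n + 1)) (m : K) :
    tpE σ a i j (bc (vx A a i) m) = tr (rg A (edge a i j)) (rg_vx (edge a i j) 1 rfl) (σ (bc (vx A ⟨1⟩ 0) m)) :=
  pullE_bc _ _ _ _

theorem pullE_tpE {a b : NF} (φ : a ⟶ b) {i j : Fin (b.n + 1)} {i' j' : Fin (a.n + 1)} (hi : at' φ i = i')
    (hj : at' φ j = j') : pullE (rg A φ) (rg_vx φ i hi) (rg_vx φ j hj) (tpE σ b i j) = tpE σ a i' j' := by
  subst hi hj
  have h : ∀ (ψ : a ⟶ ⟨1⟩) (_ : ψ = φ ≫ edge b i j) (h0 : (rg A ψ).comp (vx A ⟨1⟩ 0) = vx A a (at' φ i))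
      (h1 : (rg A ψ).comp (vx A ⟨1⟩ 1) = vx A a (at' φ j)),
      pullE (rg A φ) (rg_vx φ i rfl) (rg_vx φ j rfl) (tpE σ b i j) = pullE (rg A ψ) h0 h1 σ := by
    intro ψ hψ h0 h1
    have h2 : rg A ψ = (rg A φ).comp (rg A (edge b i j)) := by rw [hψ, rg_comp]
    revert h0 h1
    rw [h2]
    intro h0 h1
    exact pullE_pullE _ _ _ _ _ _ _
  exact h _ (comp_edge φ i j).symm _ _

/-- transport commutes with further base change -/
theorem tr_tpE {a b : NF} (φ : a ⟶ b) {i j : Fin (b.n + 1)} {i' j' : Fin (a.n + 1)} (hi : at' φ i = i')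
    (hj : at' φ j = j') (z : BC (vx A b i) K) :
    tr (rg A φ) (rg_vx φ j hj) (tpE σ b i j z) = tpE σ a i' j' (tr (rg A φ) (rg_vx φ i hi) z) := by
  rw [← pullE_tpE σ φ hi hj, pullE_tr]

end Pull

namespace Desc

variable {K : Type v} [AddCommGroup K] [Module (A.obj (op ⟨0⟩)) K] (s : Desc A K)

/-- the transport `BC (vx i) K ≃ BC (vx j) K` over `A⟨a⟩` -/
def tp (a : NF) (i j : Fin (a.n + 1)) : BC (vx A a i) K ≃ₗ[A.obj (op a)] BC (vx A a j) K := tpE s.σ a i j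

theorem tr_tp {a b : NF} (φ : a ⟶ b) {i j : Fin (b.n + 1)} {i' j' : Fin (a.n + 1)} (hi : at' φ i = i')
    (hj : at' φ j = j') (z : BC (vx A b i) K) :
    tr (rg A φ) (rg_vx φ j hj) (s.tp b i j z) = s.tp a i' j' (tr (rg A φ) (rg_vx φ i hi) z) := tr_tpE s.σ φ hi hj z

theorem pullE_tp {a b : NF} (φ : a ⟶ b) {i j : Fin (b.n + 1)} {i' j' : Fin (a.n + 1)} (hi : at' φ i = i')
    (hj : at' φ j = j') : pullE (rg A φ) (rg_vx φ i hi) (rg_vx φ j hj) (s.tp b i j) = s.tp a i' j' :=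
  pullE_tpE s.σ φ hi hj

theorem tp_trans (a : NF) (i j l : Fin (a.n + 1)) : (s.tp a i j).trans (s.tp a j l) = s.tp a i l := by
  have h0 : at' (tri a i j l) 0 = i := rfl
  have h1 : at' (tri a i j l) 1 = j := rfl
  have h2 : at' (tri a i j l) 2 = l := rfl
  rw [← s.pullE_tp (tri a i j l) h0 h1, ← s.pullE_tp (tri a i j l) h1 h2, ← s.pullE_tp (tri a i j l) h0 h2,
    ← pullE_trans]
  exact congrArg _ s.coc

theorem tp_tp (a : NF) (i j l : Fin (a.n + 1)) (z : BC (vx A a i) K) : s.tp a j l (s.tp a i j z) = s.tp a i l z :=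
  LinearEquiv.congr_fun (s.tp_trans a i j l) z

theorem tp_self (a : NF) (i : Fin (a.n + 1)) (z : BC (vx A a i) K) : s.tp a i i z = z :=
  (s.tp a i i).injective (s.tp_tp a i i i z)

theorem tp_symm (a : NF) (i j : Fin (a.n + 1)) : (s.tp a i j).symm = s.tp a j i := by
  refine LinearEquiv.ext fun z => ?_
  rw [LinearEquiv.symm_apply_eq, tp_tp, tp_self]

/-- the base change maps of the associated presheaf -/
def mp {a b : NF} (φ : a ⟶ b) : BC (vx A b 0) K →ₛₗ[rg A φ] BC (vx A a 0) K :=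
  ((s.tp a (at' φ 0) 0 : BC (vx A a (at' φ 0)) K ≃ₗ[A.obj (op a)] BC (vx A a 0) K) :
    BC (vx A a (at' φ 0)) K →ₗ[A.obj (op a)] BC (vx A a 0) K).comp (tr (rg A φ) (rg_vx φ 0 rfl))

theorem mp_apply {a b : NF} (φ : a ⟶ b) (z : BC (vx A b 0) K) :
    s.mp φ z = s.tp a (at' φ 0) 0 (tr (rg A φ) (rg_vx φ 0 rfl) z) := rfl

theorem mp_bc {a b : NF} (φ : a ⟶ b) (m : K) :
    s.mp φ (bc (vx A b 0) m) = s.tp a (at' φ 0) 0 (bc (vx A a (at' φ 0)) m) := by
  rw [mp_apply, tr_bc]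

theorem mp_id (a : NF) (z : BC (vx A a 0) K) : s.mp (𝟙 a) z = z := by
  have h : ∀ z, tr (rg A (𝟙 a)) (rg_vx (𝟙 a) 0 rfl) z = (z : BC (vx A a 0) K) := by
    intro z
    induction z using BC.ind with
    | h0 => exact map_zero _
    | h1 r m =>
      rw [LinearMap.map_smulₛₗ, tr_bc, rg_id]
      rfl
    | h2 a b ha hb => rw [map_add, ha, hb]
  exact (congrArg (s.tp a 0 0) (h z)).trans (s.tp_self a 0 z)

theorem tr_comp {a b c : NF} (ψ : a ⟶ b) (φ : b ⟶ c) (i : Fin (c.n + 1)) {j : Fin (b.n + 1)} {l : Fin (a.n + 1)}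
    (h1 : at' φ i = j) (h2 : at' ψ j = l) (h3 : at' (ψ ≫ φ) i = l) (z : BC (vx A c i) K) :
    tr (rg A (ψ ≫ φ)) (rg_vx (ψ ≫ φ) i h3) z = tr (rg A ψ) (rg_vx ψ j h2) (tr (rg A φ) (rg_vx φ i h1) z) := by
  induction z using BC.ind with
  | h0 => simp only [map_zero]
  | h1 r m =>
    simp only [LinearMap.map_smulₛₗ, tr_bc]
    rw [rg_comp]
    rfl
  | h2 a b ha hb => simp only [map_add, ha, hb]

theorem mp_comp {a b c : NF} (ψ : a ⟶ b) (φ : b ⟶ c) (z : BC (vx A c 0) K) :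
    s.mp (ψ ≫ φ) z = s.mp ψ (s.mp φ z) := by
  rw [mp_apply, mp_apply s ψ, mp_apply s φ, s.tr_tp ψ rfl rfl, tp_tp,
    ← tr_comp ψ φ 0 rfl rfl rfl z]
  rfl

end Desc

/-! ### the presheaf of modules -/

namespace Desc

variable {K : Type u} [AddCommGroup K] [Module (A.obj (op ⟨0⟩)) K] (s : Desc A K)

/-- the presheaf of modules of a descent datum -/
def pm : PM.{u} A where
  obj a := BC (vx A a 0) K
  grp _ := inferInstance
  mod _ := inferInstance
  map φ := (s.mp φ).toAddMonoidHom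
  map_smul φ r m := LinearMap.map_smulₛₗ (s.mp φ) r m
  map_id a m := s.mp_id a m
  map_comp ψ φ m := s.mp_comp ψ φ m

theorem pm_map {a b : NF} (φ : a ⟶ b) (z : BC (vx A b 0) K) : s.pm.map φ z = s.mp φ z := rfl

/-- it is cartesian -/
theorem cart : s.pm.Cart := fun a _ φ =>
  (isBC_tr (rg_vx (A := A) φ 0 rfl) K).of_equiv (s.tp a (at' φ 0) 0) fun _ => rfl

/-- `K ≃ pm.obj ⟨0⟩` -/
theorem bc_bijective : Function.Bijective (bc (vx A ⟨0⟩ 0) : K → BC (vx A ⟨0⟩ 0) K) := by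
  have h : vx A ⟨0⟩ 0 = RingHom.id _ := by
    have : pt (⟨0⟩ : NF) 0 = 𝟙 _ := by
      funext i
      exact Subsingleton.elim (α := Fin 1) _ _
    rw [vx, this, rg_id]
  have h1 := isBC_bc (vx A ⟨0⟩ 0) K
  have h2 : IsBC (vx A ⟨0⟩ 0) (AddMonoidHom.id K) := by
    rw [h]
    exact isBC_of_bijective Function.bijective_id (fun _ _ => rfl) Function.bijective_id
  obtain ⟨e, he⟩ := h2.exists_equiv h1
  have : (bc (vx A ⟨0⟩ 0) : K → BC (vx A ⟨0⟩ 0) K) = e := funext fun m => (he m).symm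
  rw [this]
  exact e.bijective

end Desc

end Groth.Agent.ResProp.EF.K959
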