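import Groth.Agent.ResProp.EF.K980.BC
import Groth.Prelude.Def_ComodTens

/-!
# Base change of a coaction along a ring homomorphism (S16912, seam AD4)

`k → R → R'`, `K` an `R`-module with a coaction `ρ : K → K ⊗[k] O` which is `R`-linear.  `coB` is the coaction on
`BC x K = R' ⊗_x K` (`k`-module structure `mkk`, through `R'`); `comodB` the comodule; compatibility with `BC.tr`,
`BC.pull`, `BC.map`.
-/

set_option autoImplicit false

open TensorProduct

noncomputable section

namespace Groth.Agent.ResProp.EF.K959.CoBC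

open K980 K980.BC

universe u

section General

variable {k R' : Type u} [CommRing k] [CommRing R'] [Algebra k R'] (N : Type u) [AddCommGroup N] [Module R' N]
  [Module k N] [IsScalarTower k R' N] (O : Type u) [AddCommGroup O] [Module k O]

/-- multiplication by `r`, `k`-linear -/
def mul (k : Type u) {R' : Type u} [CommRing k] [CommRing R'] [Algebra k R'] (N : Type u) [AddCommGroup N]
    [Module R' N] [Module k N] [IsScalarTower k R' N] (r : R') : N →ₗ[k] N :=
  ((Algebra.lsmul k R' N) r : N →ₗ[R'] N).restrictScalars k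

@[simp] theorem mul_apply (r : R') (n : N) : mul k N r n = r • n := rfl

theorem smul_eq_rTensor (r : R') (z : N ⊗[k] O) : r • z = (mul k N r).rTensor O z := by
  induction z using TensorProduct.induction_on with
  | zero => rw [smul_zero, map_zero]
  | tmul n o => rfl
  | add a b ha hb => rw [smul_add, map_add, ha, hb]

end General

section Base

/-- a semilinear map between modules with compatible `k`-structures is `k`-linear -/
def toK {k S S' : Type u} [CommRing k] [CommRing S] [CommRing S'] [Algebra k S] [Algebra k S'] {f : S →+* S'}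
    (hf : ∀ r : k, f (algebraMap k S r) = algebraMap k S' r) {N N' : Type u} [AddCommGroup N] [Module S N] [Module k N]
    [IsScalarTower k S N] [AddCommGroup N'] [Module S' N'] [Module k N'] [IsScalarTower k S' N'] (g : N →ₛₗ[f] N') :
    N →ₗ[k] N' where
  toFun := g
  map_add' := map_add g
  map_smul' r n := by
    rw [← algebraMap_smul S r n, LinearMap.map_smulₛₗ, hf, algebraMap_smul]
    rfl

@[simp] theorem toK_apply {k S S' : Type u} [CommRing k] [CommRing S] [CommRing S'] [Algebra k S] [Algebra k S']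
    {f : S →+* S'} (hf : ∀ r : k, f (algebraMap k S r) = algebraMap k S' r) {N N' : Type u} [AddCommGroup N]
    [Module S N] [Module k N] [IsScalarTower k S N] [AddCommGroup N'] [Module S' N'] [Module k N']
    [IsScalarTower k S' N'] (g : N →ₛₗ[f] N') (n : N) : toK hf g n = g n := rfl

variable {k R R' R'' : Type u} [CommRing k] [CommRing R] [CommRing R'] [CommRing R''] [Algebra k R] [Algebra k R']
  [Algebra k R''] {K K' : Type u} [AddCommGroup K] [Module R K] [Module k K] [IsScalarTower k R K]
  [AddCommGroup K'] [Module R K'] [Module k K'] [IsScalarTower k R K']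
  {O : Type u} [AddCommGroup O] [Module k O] {x y : R →+* R'} {x' y' : R →+* R''} {f : R' →+* R''}

section One

variable [Module k (BC x K)] [IsScalarTower k R' (BC x K)]

/-- `r • bc m` -/
def rbc (hx : ∀ r : k, x (algebraMap k R r) = algebraMap k R' r) (r : R') : K →ₗ[k] BC x K :=
  mul k (BC x K) r ∘ₗ toK hx (bc x)

theorem rbc_apply (hx : ∀ r : k, x (algebraMap k R r) = algebraMap k R' r) (r : R') (m : K) :
    rbc hx r m = r • bc x m := rfl

/-- the base change of an `R`-linear coaction -/
def coBl (hx : ∀ r : k, x (algebraMap k R r) = algebraMap k R' r) (ρ : K →ₗ[k] K ⊗[k] O)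
    (hρ : ∀ (r : R) (m : K), ρ (r • m) = (mul k K r).rTensor O (ρ m)) : BC x K →ₗ[R'] BC x K ⊗[k] O :=
  lift (σ := RingHom.id R') (τ := x) (RingHom.id_comp x)
    { toFun := fun m => (toK hx (bc x : K →ₛₗ[x] BC x K)).rTensor O (ρ m)
      map_add' := fun m n => by rw [map_add, map_add]
      map_smul' := fun r m => by
        rw [hρ, smul_eq_rTensor, ← LinearMap.rTensor_comp_apply, ← LinearMap.rTensor_comp_apply]
        congr 2
        refine LinearMap.ext fun n => ?_
        simp [LinearMap.map_smulₛₗ] }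

/-- the base change of an `R`-linear coaction, `k`-linear -/
def coB (hx : ∀ r : k, x (algebraMap k R r) = algebraMap k R' r) (ρ : K →ₗ[k] K ⊗[k] O)
    (hρ : ∀ (r : R) (m : K), ρ (r • m) = (mul k K r).rTensor O (ρ m)) : BC x K →ₗ[k] BC x K ⊗[k] O :=
  (coBl hx ρ hρ).restrictScalars k

theorem coB_bc (hx : ∀ r : k, x (algebraMap k R r) = algebraMap k R' r) (ρ : K →ₗ[k] K ⊗[k] O)
    (hρ : ∀ (r : R) (m : K), ρ (r • m) = (mul k K r).rTensor O (ρ m)) (m : K) :
    coB hx ρ hρ (bc x m) = (toK hx (bc x : K →ₛₗ[x] BC x K)).rTensor O (ρ m) := by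
  change coBl hx ρ hρ (bc x m) = _
  rw [coBl, lift_bc]
  rfl

theorem coB_smul (hx : ∀ r : k, x (algebraMap k R r) = algebraMap k R' r) (ρ : K →ₗ[k] K ⊗[k] O)
    (hρ : ∀ (r : R) (m : K), ρ (r • m) = (mul k K r).rTensor O (ρ m)) (r : R') (z : BC x K) :
    coB hx ρ hρ (r • z) = (mul k (BC x K) r).rTensor O (coB hx ρ hρ z) := by
  change coBl hx ρ hρ (r • z) = _
  rw [LinearMap.map_smul, smul_eq_rTensor]
  rfl

theorem coB_comp_rbc (hx : ∀ r : k, x (algebraMap k R r) = algebraMap k R' r) (ρ : K →ₗ[k] K ⊗[k] O)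
    (hρ : ∀ (r : R) (m : K), ρ (r • m) = (mul k K r).rTensor O (ρ m)) (r : R') :
    coB hx ρ hρ ∘ₗ rbc hx r = (rbc hx r).rTensor O ∘ₗ ρ := by
  refine LinearMap.ext fun m => ?_
  rw [LinearMap.comp_apply, LinearMap.comp_apply, rbc_apply, coB_smul, coB_bc, rbc, LinearMap.rTensor_comp]
  rfl

/-- the base change of an `R`-linear comodule structure -/
@[reducible] def comodB [Coalgebra k O] (hx : ∀ r : k, x (algebraMap k R r) = algebraMap k R' r)
    (c : HopfRep.Comod k O K) (hρ : ∀ (r : R) (m : K), c.coact (r • m) = (mul k K r).rTensor O (c.coact m)) :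
    HopfRep.Comod k O (BC x K) where
  coact := coB hx c.coact hρ
  coassoc := by
    refine LinearMap.ext fun z => ?_
    change TensorProduct.assoc k (BC x K) O O ((coB hx c.coact hρ).rTensor O (coB hx c.coact hρ z)) =
      (CoalgebraStruct.comul (R := k) (A := O)).lTensor (BC x K) (coB hx c.coact hρ z)
    induction z using BC.ind with
    | h0 => simp only [map_zero]
    | h1 r m => exact ComodTens.coassoc_apply_of_hom c _ (rbc hx r) (coB_comp_rbc hx c.coact hρ r) m
    | h2 a b ha hb => simp only [map_add, ha, hb]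
  counit_comp := by
    refine LinearMap.ext fun z => ?_
    change (CoalgebraStruct.counit (R := k) (A := O)).lTensor (BC x K) (coB hx c.coact hρ z) = z ⊗ₜ[k] (1 : k)
    induction z using BC.ind with
    | h0 => rw [map_zero, map_zero, TensorProduct.zero_tmul]
    | h1 r m => exact ComodTens.counit_apply_of_hom c _ (rbc hx r) (coB_comp_rbc hx c.coact hρ r) m
    | h2 a b ha hb => rw [map_add, map_add, ha, hb, TensorProduct.add_tmul]

/-- the base change of an equivariant `R`-linear map is equivariant -/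
theorem coB_map [Module k (BC x K')] [IsScalarTower k R' (BC x K')]
    (hx : ∀ r : k, x (algebraMap k R r) = algebraMap k R' r)
    (ρ : K →ₗ[k] K ⊗[k] O) (hρ : ∀ (r : R) (m : K), ρ (r • m) = (mul k K r).rTensor O (ρ m))
    (ρ' : K' →ₗ[k] K' ⊗[k] O) (hρ' : ∀ (r : R) (m : K'), ρ' (r • m) = (mul k K' r).rTensor O (ρ' m))
    (g : K →ₗ[R] K') (hg : ∀ m : K, ρ' (g m) = (g.restrictScalars k).rTensor O (ρ m)) (z : BC x K) :
    coB hx ρ' hρ' (map x g z) = ((map x g).restrictScalars k).rTensor O (coB hx ρ hρ z) := by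
  induction z using BC.ind with
  | h0 => simp only [map_zero]
  | h1 r m =>
    rw [LinearMap.map_smul, coB_smul, coB_smul, map_bc, coB_bc, coB_bc, hg, ← LinearMap.rTensor_comp_apply,
      ← LinearMap.rTensor_comp_apply, ← LinearMap.rTensor_comp_apply, ← LinearMap.rTensor_comp_apply]
    congr 2
    refine LinearMap.ext fun n => ?_
    simp
  | h2 a b ha hb => simp only [map_add, ha, hb]

end One

/-- further base change is a map of coactions -/
theorem coB_tr [Module k (BC x K)] [IsScalarTower k R' (BC x K)] [Module k (BC x' K)]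
    [IsScalarTower k R'' (BC x' K)] (hx : ∀ r : k, x (algebraMap k R r) = algebraMap k R' r)
    (hx' : ∀ r : k, x' (algebraMap k R r) = algebraMap k R'' r)
    (hf : ∀ r : k, f (algebraMap k R' r) = algebraMap k R'' r) (h : f.comp x = x') (ρ : K →ₗ[k] K ⊗[k] O)
    (hρ : ∀ (r : R) (m : K), ρ (r • m) = (mul k K r).rTensor O (ρ m)) (z : BC x K) :
    coB hx' ρ hρ (tr f h z) = (toK hf (tr f h : BC x K →ₛₗ[f] BC x' K)).rTensor O (coB hx ρ hρ z) := by
  induction z using BC.ind with
  | h0 => simp only [map_zero]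
  | h1 r m =>
    rw [LinearMap.map_smulₛₗ, tr_bc, coB_smul, coB_smul, coB_bc, coB_bc, ← LinearMap.rTensor_comp_apply,
      ← LinearMap.rTensor_comp_apply, ← LinearMap.rTensor_comp_apply]
    congr 2
    refine LinearMap.ext fun n => ?_
    simp [LinearMap.map_smulₛₗ]
  | h2 a b ha hb => simp only [map_add, ha, hb]

/-- a map of coactions over `R'` stays one after base change -/
theorem coB_pull [Module k (BC x K)] [IsScalarTower k R' (BC x K)] [Module k (BC x' K)]
    [IsScalarTower k R'' (BC x' K)] [Module k (BC y K')] [IsScalarTower k R' (BC y K')] [Module k (BC y' K')]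
    [IsScalarTower k R'' (BC y' K')] (hx : ∀ r : k, x (algebraMap k R r) = algebraMap k R' r)
    (hy : ∀ r : k, y (algebraMap k R r) = algebraMap k R' r)
    (hx' : ∀ r : k, x' (algebraMap k R r) = algebraMap k R'' r)
    (hy' : ∀ r : k, y' (algebraMap k R r) = algebraMap k R'' r)
    (hf : ∀ r : k, f (algebraMap k R' r) = algebraMap k R'' r) (h : f.comp x = x') (h' : f.comp y = y')
    (ρ : K →ₗ[k] K ⊗[k] O) (hρ : ∀ (r : R) (m : K), ρ (r • m) = (mul k K r).rTensor O (ρ m))
    (ρ' : K' →ₗ[k] K' ⊗[k] O) (hρ' : ∀ (r : R) (m : K'), ρ' (r • m) = (mul k K' r).rTensor O (ρ' m))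
    (ψ : BC x K →ₗ[R'] BC y K')
    (hψ : ∀ m : K, coB hy ρ' hρ' (ψ (bc x m)) = (ψ.restrictScalars k).rTensor O (coB hx ρ hρ (bc x m)))
    (z : BC x' K) :
    coB hy' ρ' hρ' (pull f h h' ψ z) = ((pull f h h' ψ).restrictScalars k).rTensor O (coB hx' ρ hρ z) := by
  induction z using BC.ind with
  | h0 => simp only [map_zero]
  | h1 r m =>
    rw [LinearMap.map_smul, coB_smul, coB_smul, pull_bc, coB_tr hy hy' hf h', hψ, coB_bc, coB_bc,
      ← LinearMap.rTensor_comp_apply, ← LinearMap.rTensor_comp_apply, ← LinearMap.rTensor_comp_apply,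
      ← LinearMap.rTensor_comp_apply, ← LinearMap.rTensor_comp_apply]
    congr 2
    refine LinearMap.ext fun n => ?_
    simp [pull_bc]
  | h2 a b ha hb => simp only [map_add, ha, hb]

end Base

end Groth.Agent.ResProp.EF.K959.CoBC
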