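import Groth.Agent.ResProp.EF.Arch
import Groth.Agent.ResProp.EF.K959.Desc
import Groth.Agent.ResProp.EF.K959.CoBC

/-!
# Descent data with coaction and `P`-action give objects `SObj` of `Arch.lean` (S16912, AD4 (1))

* `Desc.IsHom s s' f` : the `R`-linear map `f : K → K'` commutes with the descent data; `IsHom.map_tp`.
* `EDesc k A E P` : a `P`-module `K` with a descent datum `s` and a coaction `c` of `E`, `R`-linear and commuting with `s`.
* `EDesc.sobj : SObj k A E P`, `sobj.M.obj a = BC (vx A a 0) K`.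
* `EDesc.IsHom X X' f`, `EDesc.IsHom.hom : X.sobj.Hom X'.sobj`, `hom.f a = BC.map (vx A a 0) f`.
* `EDesc.e0 : K ≃ₗ[R] sobj.M.obj ⟨0⟩` (`P`-linear, equivariant); `map_pt`: `M.map (pt a i)`.
-/

set_option autoImplicit false
set_option linter.dupNamespace false

open CategoryTheory Opposite TensorProduct

noncomputable section

namespace Groth.Agent.ResProp.EF.K959

open K784.BC K784.PM K741.RP EF56 K980 K980.BC Grp Arch CoBC

universe u v w w'

variable {A : NFᵒᵖ ⥤ CommRingCat.{u}}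

/-! ### morphisms of descent data -/

section Hom

variable {K : Type v} {K' : Type w} {K'' : Type w'} [AddCommGroup K] [Module (A.obj (op ⟨0⟩)) K] [AddCommGroup K']
  [Module (A.obj (op ⟨0⟩)) K'] [AddCommGroup K''] [Module (A.obj (op ⟨0⟩)) K'']

/-- `f` commutes with the descent data -/
def Desc.IsHom (s : Desc A K) (s' : Desc A K') (f : K →ₗ[A.obj (op ⟨0⟩)] K') : Prop :=
  ∀ m : K, s'.σ (bc (vx A ⟨1⟩ 0) (f m)) = BC.map (vx A ⟨1⟩ 1) f (s.σ (bc (vx A ⟨1⟩ 0) m))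

theorem Desc.IsHom.map_tp {s : Desc A K} {s' : Desc A K'} {f : K →ₗ[A.obj (op ⟨0⟩)] K'} (h : s.IsHom s' f) (a : NF)
    (i j : Fin (a.n + 1)) (z : BC (vx A a i) K) :
    BC.map (vx A a j) f (s.tp a i j z) = s'.tp a i j (BC.map (vx A a i) f z) := by
  induction z using BC.ind with
  | h0 => simp only [map_zero]
  | h1 r m =>
    rw [LinearMap.map_smul, map_bc, _root_.map_smul, LinearMap.map_smul, _root_.map_smul]
    congr 1
    change BC.map (vx A a j) f (tpE s.σ a i j (bc (vx A a i) m)) = tpE s'.σ a i j (bc (vx A a i) (f m))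
    rw [tpE_bc, tpE_bc, h m, tr_map]
    rfl
  | h2 a b ha hb => simp only [map_add, ha, hb]

theorem Desc.IsHom.map_mp {s : Desc A K} {s' : Desc A K'} {f : K →ₗ[A.obj (op ⟨0⟩)] K'} (h : s.IsHom s' f)
    {a b : NF} (φ : a ⟶ b) (z : BC (vx A b 0) K) :
    BC.map (vx A a 0) f (s.mp φ z) = s'.mp φ (BC.map (vx A b 0) f z) := by
  rw [Desc.mp_apply, Desc.mp_apply, h.map_tp, tr_map]

theorem Desc.IsHom.id (s : Desc A K) : s.IsHom s LinearMap.id := fun m => by
  rw [BC.map_id]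
  rfl

theorem Desc.IsHom.comp {s : Desc A K} {s' : Desc A K'} {s'' : Desc A K''} {g : K' →ₗ[A.obj (op ⟨0⟩)] K''}
    {f : K →ₗ[A.obj (op ⟨0⟩)] K'} (hg : s'.IsHom s'' g) (hf : s.IsHom s' f) : s.IsHom s'' (g ∘ₗ f) := fun m => by
  rw [LinearMap.comp_apply, hg, hf, BC.map_map]

end Hom

/-! ### the action of `P` on a base change -/

section ModP

variable {R R' : Type u} [CommRing R] [CommRing R'] (x : R →+* R') (P : Type u) [CommRing P] [Algebra R P]
  (K : Type u) [AddCommGroup K] [Module R K] [Module P K] [IsScalarTower R P K]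

/-- multiplication by an element of `P`, `R`-linear -/
def lP (q : P) : K →ₗ[R] K := ((Algebra.lsmul R P K) q : K →ₗ[P] K).restrictScalars R

@[simp] theorem lP_apply (q : P) (m : K) : lP (R := R) P K q m = q • m := rfl

/-- the action of `P` on `BC x K` -/
@[reducible] def modP : Module P (BC x K) where
  smul q z := BC.map x (lP P K q) z
  one_smul z := by
    change BC.map x (lP P K 1) z = z
    have : lP (R := R) P K 1 = LinearMap.id := by ext; simp
    rw [this, BC.map_id]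
    rfl
  mul_smul q q' z := by
    change BC.map x (lP P K (q * q')) z = BC.map x (lP P K q) (BC.map x (lP P K q') z)
    rw [BC.map_map]
    congr 2
    ext
    simp [mul_smul]
  smul_zero q := map_zero _
  smul_add q z w := map_add _ z w
  add_smul q q' z := by
    change BC.map x (lP P K (q + q')) z = BC.map x (lP P K q) z + BC.map x (lP P K q') z
    rw [← LinearMap.add_apply, ← BC.map_add']
    congr 2
    ext
    simp [add_smul]
  zero_smul z := by
    change BC.map x (lP P K 0) z = 0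
    have : lP (R := R) P K 0 = 0 := by ext; simp
    rw [this, BC.map_zero']
    rfl

theorem modP_smul (q : P) (z : BC x K) : (modP x P K).smul q z = BC.map x (lP P K q) z := rfl

end ModP

/-! ### descent data with coaction -/

variable (k : Type u) [CommRing k] [GRF k A]

/-- the `k`-module structure on `BC (vx A a i) K` -/
instance bkk (a : NF) (i : Fin (a.n + 1)) (K : Type u) [AddCommGroup K] [Module (A.obj (op ⟨0⟩)) K] :
    Module k (BC (vx A a i) K) := Module.compHom _ (algebraMap k (A.obj (op a)))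

instance bkk_tower (a : NF) (i : Fin (a.n + 1)) (K : Type u) [AddCommGroup K] [Module (A.obj (op ⟨0⟩)) K] :
    IsScalarTower k (A.obj (op a)) (BC (vx A a i) K) := ⟨fun r s z => by
  change (r • s) • z = algebraMap k (A.obj (op a)) r • (s • z)
  rw [Algebra.smul_def, mul_smul]⟩

variable (A) in
theorem hk (a : NF) (i : Fin (a.n + 1)) (r : k) :
    vx A a i (algebraMap k (A.obj (op ⟨0⟩)) r) = algebraMap k (A.obj (op a)) r := GRF.map_k _ r

/-- an `R`-module with `P`-action, descent datum and coaction of `E` -/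
structure EDesc (k : Type u) [CommRing k] (A : NFᵒᵖ ⥤ CommRingCat.{u}) [GRF k A] (E : Gp k) (P : Type u) [CommRing P] [Algebra (A.obj (op ⟨0⟩)) P] : Type (u + 1) where
  K : Type u
  [ag : AddCommGroup K]
  [mR : Module (A.obj (op ⟨0⟩)) K]
  [mkk : Module k K]
  [tk : IsScalarTower k (A.obj (op ⟨0⟩)) K]
  [mP : Module P K]
  [tP : IsScalarTower (A.obj (op ⟨0⟩)) P K]
  s : Desc A K
  c : HopfRep.Comod k E.O K
  lin : ∀ (r : A.obj (op ⟨0⟩)) (m : K), c.coact (r • m) = (mul k K r).rTensor E.O (c.coact m)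
  equi : ∀ m : K, coB (hk A k ⟨1⟩ 1) c.coact lin (s.σ (bc (vx A ⟨1⟩ 0) m)) =
    (s.σ.toLinearMap.restrictScalars k).rTensor E.O (coB (hk A k ⟨1⟩ 0) c.coact lin (bc (vx A ⟨1⟩ 0) m))

attribute [instance] EDesc.ag EDesc.mR EDesc.mkk EDesc.tk EDesc.mP EDesc.tP

variable {k}

namespace EDesc

variable {E : Gp k} {P : Type u} [CommRing P] [Algebra (A.obj (op ⟨0⟩)) P] (X : EDesc k A E P)

/-- the coaction on `BC (vx A a i) K` -/
def co (a : NF) (i : Fin (a.n + 1)) : BC (vx A a i) X.K →ₗ[k] BC (vx A a i) X.K ⊗[k] E.O :=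
  coB (hk A k a i) X.c.coact X.lin

theorem co_tp (a : NF) (i j : Fin (a.n + 1)) (z : BC (vx A a i) X.K) :
    X.co a j (X.s.tp a i j z) = ((X.s.tp a i j).toLinearMap.restrictScalars k).rTensor E.O (X.co a i z) :=
  coB_pull (hk A k ⟨1⟩ 0) (hk A k ⟨1⟩ 1) (hk A k a i) (hk A k a j) (GRF.map_k (edge a i j))
    (rg_vx (edge a i j) 0 rfl) (rg_vx (edge a i j) 1 rfl) X.c.coact X.lin X.c.coact X.lin X.s.σ.toLinearMap X.equi z

theorem co_tr {a b : NF} (φ : a ⟶ b) (i : Fin (b.n + 1)) (z : BC (vx A b i) X.K) :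
    X.co a (at' φ i) (tr (rg A φ) (rg_vx φ i rfl) z) =
      (toK (GRF.map_k φ) (tr (rg A φ) (rg_vx φ i rfl) : BC (vx A b i) X.K →ₛₗ[rg A φ] BC (vx A a (at' φ i)) X.K)).rTensor
        E.O (X.co b i z) :=
  coB_tr (hk A k b i) (hk A k a _) (GRF.map_k φ) (rg_vx φ i rfl) X.c.coact X.lin z

theorem co_mp {a b : NF} (φ : a ⟶ b) (z : BC (vx A b 0) X.K) :
    X.co a 0 (X.s.mp φ z) = (toK (GRF.map_k φ) (X.s.mp φ)).rTensor E.O (X.co b 0 z) := by
  rw [Desc.mp_apply, co_tp, co_tr, ← LinearMap.rTensor_comp_apply]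
  rfl

/-- the coaction of `E` on the presheaf -/
def eco : ECo E X.s.pm where
  co a := (comodB (hk A k a 0) X.c X.lin : HopfRep.Comod k E.O (BC (vx A a 0) X.K))
  lin a r m := coB_smul (hk A k a 0) X.c.coact X.lin r m
  nat φ m := X.co_mp φ m

theorem vx_zero (A : NFᵒᵖ ⥤ CommRingCat.{u}) (r : A.obj (op ⟨0⟩)) : vx A ⟨0⟩ 0 r = r := by
  have : pt (⟨0⟩ : NF) 0 = 𝟙 _ := by
    funext i
    exact Subsingleton.elim (α := Fin 1) _ _
  rw [vx, this, rg_id]
  rfl

theorem towerP : @IsScalarTower (A.obj (op ⟨0⟩)) P (BC (vx A ⟨0⟩ 0) X.K) _ (modP (vx A ⟨0⟩ 0) P X.K).toSMul _ := by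
  let _ := modP (vx A ⟨0⟩ 0) P X.K
  refine ⟨fun r q z => ?_⟩
  change BC.map (vx A ⟨0⟩ 0) (lP P X.K (r • q)) z = r • BC.map (vx A ⟨0⟩ 0) (lP P X.K q) z
  have h1 : lP (R := A.obj (op ⟨0⟩)) P X.K (r • q) = r • lP P X.K q := by
    ext m
    simp
  rw [h1, BC.map_smul', vx_zero]
  rfl

/-- the object of `Arch.lean` -/
def sobj : SObj k A E P :=
  @SObj.mk k _ A _ E P _ _ X.s.pm X.s.cart X.eco
    (modP (vx A ⟨0⟩ 0) P X.K : Module P (BC (vx A ⟨0⟩ 0) X.K)) X.towerP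

theorem sobj_M : X.sobj.M = X.s.pm := rfl

theorem sobj_map {a b : NF} (φ : a ⟶ b) (z : BC (vx A b 0) X.K) : X.sobj.M.map φ z = X.s.mp φ z := rfl

theorem sobj_coact (a : NF) (z : BC (vx A a 0) X.K) : (X.sobj.e.co a).coact z = X.co a 0 z := rfl

theorem sobj_smul (q : P) (z : BC (vx A ⟨0⟩ 0) X.K) :
    X.sobj.pm.smul q z = BC.map (vx A ⟨0⟩ 0) (lP P X.K q) z := rfl

/-- `K ≃ sobj.M.obj ⟨0⟩` -/
theorem bc_bijective : Function.Bijective (bc (vx A ⟨0⟩ 0) : X.K → BC (vx A ⟨0⟩ 0) X.K) := Desc.bc_bijective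

theorem smul_bc (q : P) (m : X.K) : X.sobj.pm.smul q (bc (vx A ⟨0⟩ 0) m) = bc (vx A ⟨0⟩ 0) (q • m) := by
  rw [sobj_smul, map_bc]
  rfl

theorem coact_bc (m : X.K) : (X.sobj.e.co ⟨0⟩).coact (bc (vx A ⟨0⟩ 0) m) =
    (toK (hk A k ⟨0⟩ 0) (bc (vx A ⟨0⟩ 0) : X.K →ₛₗ[vx A ⟨0⟩ 0] BC (vx A ⟨0⟩ 0) X.K)).rTensor E.O (X.c.coact m) :=
  coB_bc (hk A k ⟨0⟩ 0) X.c.coact X.lin m

/-- the base change maps to the vertices: `M.map (pt a i) (bc m) = tp i 0 (bc_i m)` -/
theorem map_pt (a : NF) (i : Fin (a.n + 1)) (m : X.K) :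
    X.sobj.M.map (pt a i) (bc (vx A ⟨0⟩ 0) m) = X.s.tp a i 0 (bc (vx A a i) m) := by
  rw [sobj_map, Desc.mp_bc]
  rfl

/-- morphisms -/
structure IsHom (X X' : EDesc k A E P) (f : X.K →ₗ[A.obj (op ⟨0⟩)] X'.K) : Prop where
  comm : X.s.IsHom X'.s f
  pl : ∀ (q : P) (m : X.K), f (q • m) = q • f m
  equi : ∀ m : X.K, X'.c.coact (f m) = (f.restrictScalars k).rTensor E.O (X.c.coact m)

theorem IsHom.map_lP {X X' : EDesc k A E P} {f : X.K →ₗ[A.obj (op ⟨0⟩)] X'.K} (h : IsHom X X' f) (q : P)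
    (z : BC (vx A ⟨0⟩ 0) X.K) : BC.map (vx A ⟨0⟩ 0) f (BC.map (vx A ⟨0⟩ 0) (lP P X.K q) z) =
      BC.map (vx A ⟨0⟩ 0) (lP P X'.K q) (BC.map (vx A ⟨0⟩ 0) f z) := by
  rw [BC.map_map, BC.map_map]
  congr 2
  ext n
  simp [h.pl]

/-- the morphism of objects of `Arch.lean` -/
def IsHom.hom {X X' : EDesc k A E P} {f : X.K →ₗ[A.obj (op ⟨0⟩)] X'.K} (h : IsHom X X' f) :
    X.sobj.Hom X'.sobj where
  f a := BC.map (vx A a 0) f
  nat φ m := h.comm.map_mp φ m
  equi a m := coB_map (hk A k a 0) X.c.coact X.lin X'.c.coact X'.lin f h.equi m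
  pl q m := h.map_lP q m

theorem IsHom.hom_f {X X' : EDesc k A E P} {f : X.K →ₗ[A.obj (op ⟨0⟩)] X'.K} (h : IsHom X X' f) (a : NF) :
    h.hom.f a = BC.map (vx A a 0) f := rfl

theorem IsHom.hom_bc {X X' : EDesc k A E P} {f : X.K →ₗ[A.obj (op ⟨0⟩)] X'.K} (h : IsHom X X' f) (m : X.K) :
    h.hom.f ⟨0⟩ (bc (vx A ⟨0⟩ 0) m) = bc (vx A ⟨0⟩ 0) (f m) := map_bc f m

end EDesc

end Groth.Agent.ResProp.EF.K959
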