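import Groth.Agent.ResProp.EF.K959.Pow
import Groth.Agent.ResProp.EF.K959.SObj

/-!
# Morphisms between powers of descent data (S16912, AD4)
-/

set_option autoImplicit false
set_option linter.dupNamespace false

open CategoryTheory Opposite TensorProduct

noncomputable section

namespace Groth.Agent.ResProp.EF.K959

open K784.BC K784.PM K741.RP EF56 K980 K980.BC Grp Arch CoBC

universe u v w w'

variable {A : NFᵒᵖ ⥤ CommRingCat.{u}}

section

variable {K : Type v} {K' : Type w} [AddCommGroup K] [Module (A.obj (op ⟨0⟩)) K] [AddCommGroup K']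
  [Module (A.obj (op ⟨0⟩)) K'] (I : Type w') [Fintype I] [DecidableEq I]

theorem Desc.IsHom.σ_map {s : Desc A K} {s' : Desc A K'} {f : K →ₗ[A.obj (op ⟨0⟩)] K'} (h : s.IsHom s' f)
    (z : BC (vx A ⟨1⟩ 0) K) : s'.σ (BC.map (vx A ⟨1⟩ 0) f z) = BC.map (vx A ⟨1⟩ 1) f (s.σ z) := by
  induction z using BC.ind with
  | h0 => simp only [map_zero]
  | h1 r m =>
    rw [LinearMap.map_smul, map_bc, _root_.map_smul, _root_.map_smul, LinearMap.map_smul, h m]
  | h2 a b ha hb => simp only [map_add, ha, hb]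

theorem Desc.IsHom.compLeft {s : Desc A K} {s' : Desc A K'} {g : K →ₗ[A.obj (op ⟨0⟩)] K'} (h : s.IsHom s' g) :
    (s.pow I).IsHom (s'.pow I) (g.compLeft I) := fun m => by
  rw [Desc.pow_σ, Desc.pow_σ, ← powE_compLeft I s.σ s'.σ g g h.σ_map, map_bc]

theorem Desc.isHom_proj (s : Desc A K) (i : I) :
    (s.pow I).IsHom s (LinearMap.proj i : (I → K) →ₗ[A.obj (op ⟨0⟩)] K) := fun m => by
  rw [Desc.pow_σ, proj_powE, map_bc]

theorem Desc.isHom_single (s : Desc A K) (i : I) :
    s.IsHom (s.pow I) (LinearMap.single (A.obj (op ⟨0⟩)) (fun _ => K) i) := fun m => by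
  rw [Desc.pow_σ, ← powE_single, map_bc]

/-- `f : L → (I → K)` commutes with descent data iff all components do -/
theorem Desc.isHom_pow_iff {s : Desc A K} {s' : Desc A K'} {f : K' →ₗ[A.obj (op ⟨0⟩)] (I → K)} :
    s'.IsHom (s.pow I) f ↔ ∀ i : I, s'.IsHom s (LinearMap.proj i ∘ₗ f) := by
  constructor
  · exact fun h i => (s.isHom_proj I i).comp h
  · intro h m
    refine pow_ext I fun i => ?_
    rw [Desc.pow_σ, proj_powE, BC.map_map, ← h i m, map_bc]
    rfl

end

end Groth.Agent.ResProp.EF.K959
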