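import Groth.Agent.ResProp.EF.K65.Defs

/-!
# Block T, node EQ: equivariance and base change for `τ_x`, `E`, `pr` and the retraction `rr`
-/

set_option autoImplicit false
set_option linter.unusedSectionVars false

open MvPolynomial

namespace Groth.Agent.ResProp.EF.K959

open Groth.Agent.ResProp.EF.K65

universe u

section Basic

variable {r r' N : ℕ} {R : Type u} [CommRing R] {S : Type u} [CommRing S] [Algebra R S]

@[simp] theorem ev_X (Y : Matrix (Fin r) (Fin N) S) (ij : Fin r × Fin N) :
    ev Y (X ij : P r N R) = Y ij.1 ij.2 := aeval_X _ _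

@[simp] theorem ev_C (Y : Matrix (Fin r) (Fin N) S) (a : R) :
    ev Y (C a : P r N R) = algebraMap R S a := aeval_C _ _

theorem ev_gen (f : P r N R) : ev (gen r N R) f = f := by
  have h : (ev (gen r N R) : P r N R →ₐ[R] P r N R) = AlgHom.id R _ :=
    MvPolynomial.algHom_ext fun ij => by rw [ev_X]; rfl
  rw [h]; rfl

theorem ext_ev {f f' : P r N R} (h : ev (gen r N R) f = ev (gen r N R) f') : f = f' := by
  rwa [ev_gen, ev_gen] at h

/-- `ev` and algebra homomorphisms -/
theorem ev_map {S' : Type u} [CommRing S'] [Algebra R S'] (φ : S →ₐ[R] S')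
    (Y : Matrix (Fin r) (Fin N) S) (f : P r N R) : φ (ev Y f) = ev (Y.map φ) f := by
  have h : φ.comp (ev Y) = (ev (Y.map φ) : P r N R →ₐ[R] S') :=
    MvPolynomial.algHom_ext fun ij => by rw [AlgHom.comp_apply, ev_X, ev_X]; rfl
  exact AlgHom.congr_fun h f

theorem ev_act (Y : Matrix (Fin r) (Fin N) S) (g : Matrix (Fin N) (Fin N) R) (f : P r N R) :
    ev Y (act g f) = ev (Y * g.map (algebraMap R S)) f := by
  rw [act, ev_map]
  congr 2
  ext i j
  simp [Matrix.mul_apply, gen, MvPolynomial.algebraMap_eq]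

theorem act_one (f : P r N R) : act (1 : Matrix (Fin N) (Fin N) R) f = f := by
  apply ext_ev
  rw [ev_act]
  congr 2
  rw [Matrix.map_one _ (map_zero _) (map_one _), Matrix.mul_one]

theorem act_mul (g h : Matrix (Fin N) (Fin N) R) (f : P r N R) :
    act (g * h) f = act g (act h f) := by
  apply ext_ev
  rw [ev_act, ev_act, ev_act, Matrix.map_mul, Matrix.mul_assoc]

theorem ev_incl (Y : Matrix (Fin (r + 1)) (Fin N) S) (f : P r N R) :
    ev Y (incl f) = ev (Matrix.of fun i j => Y i.castSucc j) f := by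
  rw [incl, ev_map]
  congr 2
  ext i j
  simp

@[simp] theorem consRow_zero (x : Fin N → S) (Y : Matrix (Fin r) (Fin N) S) (j : Fin N) :
    consRow x Y 0 j = x j := rfl

@[simp] theorem consRow_succ (x : Fin N → S) (Y : Matrix (Fin r) (Fin N) S) (i : Fin r) (j : Fin N) :
    consRow x Y i.succ j = Y i j := rfl

theorem consRow_map {S' : Type u} [CommRing S'] (φ : S → S') (x : Fin N → S)
    (Y : Matrix (Fin r) (Fin N) S) : (consRow x Y).map φ = consRow (φ ∘ x) (Y.map φ) := by
  ext i j
  refine Fin.cases ?_ (fun i => ?_) i <;> rfl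

theorem consRow_mul (x : Fin N → S) (Y : Matrix (Fin r) (Fin N) S) (g : Matrix (Fin N) (Fin N) S) :
    consRow x Y * g = consRow (fun j => ∑ k, x k * g k j) (Y * g) := by
  ext i j
  refine Fin.cases ?_ (fun i => ?_) i <;> rfl

/-- the polynomial `F(x, Y)` in `x`, `Y` a matrix over `S` -/
noncomputable def pol (Y : Matrix (Fin r) (Fin N) S) : P (r + 1) N R →ₐ[R] MvPolynomial (Fin N) S :=
  ev (consRow X (Y.map C))

theorem map_pol {S' : Type u} [CommRing S'] [Algebra R S'] (φ : S →ₐ[R] S')
    (Y : Matrix (Fin r) (Fin N) S) (f : P (r + 1) N R) :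
    MvPolynomial.map (φ : S →+* S') (pol Y f) = pol (Y.map φ) f := by
  have h := ev_map (MvPolynomial.mapAlgHom (σ := Fin N) φ) (consRow X (Y.map C)) f
  have e : ((consRow X (Y.map C)).map (MvPolynomial.mapAlgHom (σ := Fin N) φ)) =
      consRow X ((Y.map φ).map C) := by
    rw [consRow_map]
    congr 1
    · funext j
      exact MvPolynomial.map_X (φ : S →+* S') j
    · ext1 i j
      exact MvPolynomial.map_C (φ : S →+* S') (Y i j)
  rw [e] at h
  exact h

theorem ev_taux (q : ℕ) (Y : Matrix (Fin r) (Fin N) S) (F : P (r + 1) N R) :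
    ev Y (taux q F) = tau q (pol Y F) := by
  have h1 : (taux q F : P r N R) = tau q (split F) := rfl
  have h2 : ((gen r N R).map (ev Y) : Matrix (Fin r) (Fin N) S) = Y := by
    ext i j
    simp [gen]
  have h3 := map_pol (ev Y : P r N R →ₐ[R] S) (gen r N R) F
  rw [h2] at h3
  rw [h1, ← h3]
  simp only [tau, lcoeff_apply, coeff_map]
  rfl

/-- `vact` and evaluation of `pol` -/
theorem vact_pol (Y : Matrix (Fin r) (Fin N) S) (g : Matrix (Fin N) (Fin N) R) (F : P (r + 1) N R) :
    vact (g.map (algebraMap R S)) (pol (Y * g.map (algebraMap R S)) F) = pol Y (act g F) := by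
  have h : ((vact (g.map (algebraMap R S))).restrictScalars R).comp
      (pol (Y * g.map (algebraMap R S)) : P (r + 1) N R →ₐ[R] MvPolynomial (Fin N) S) =
      (pol Y : P (r + 1) N R →ₐ[R] MvPolynomial (Fin N) S).comp (act g) := by
    refine MvPolynomial.algHom_ext fun ij => ?_
    obtain ⟨i, j⟩ := ij
    rw [AlgHom.comp_apply, AlgHom.comp_apply, pol, pol, ev_act, ev_X, ev_X]
    refine Fin.cases ?_ (fun i => ?_) i
    · simp only [consRow_zero, AlgHom.restrictScalars_apply, vact, aeval_X, Matrix.mul_apply,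
        Matrix.map_apply]
      refine Finset.sum_congr rfl fun k _ => ?_
      rw [IsScalarTower.algebraMap_apply R S (MvPolynomial (Fin N) S), MvPolynomial.algebraMap_eq]
    · simp only [consRow_succ, AlgHom.restrictScalars_apply, vact, Matrix.mul_apply,
        Matrix.map_apply, map_sum, map_mul, aeval_C, MvPolynomial.algebraMap_eq]
      refine Finset.sum_congr rfl fun k _ => ?_
      rw [IsScalarTower.algebraMap_apply R S (MvPolynomial (Fin N) S), MvPolynomial.algebraMap_eq]
  exact AlgHom.congr_fun h F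

end Basic

/-! ## gradings -/

section Grading

/-- a ring homomorphism which respects gradings on the generators respects them -/
theorem grade_hom {σ M R A : Type*} [AddCommMonoid M] [CommSemiring R] [CommSemiring A] (w : σ → M)
    (𝒜 : M → AddSubmonoid A) (h1 : (1 : A) ∈ 𝒜 0)
    (hm : ∀ {a b : A} {m n : M}, a ∈ 𝒜 m → b ∈ 𝒜 n → a * b ∈ 𝒜 (m + n))
    (φ : MvPolynomial σ R →+* A) (hC : ∀ a, φ (C a) ∈ 𝒜 0) (hX : ∀ i, φ (X i) ∈ 𝒜 (w i))
    {f : MvPolynomial σ R} {m : M} (hf : IsWeightedHomogeneous w f m) : φ f ∈ 𝒜 m := by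
  have hp : ∀ (i : σ) (e : ℕ), φ (X i) ^ e ∈ 𝒜 (e • w i) := by
    intro i e
    induction e with
    | zero => simpa using h1
    | succ e ih => rw [pow_succ, succ_nsmul]; exact hm ih (hX i)
  have hd : ∀ d : σ →₀ ℕ, φ (d.prod fun n e => X n ^ e) ∈ 𝒜 (Finsupp.weight w d) := by
    intro d
    induction d using Finsupp.induction_linear with
    | zero => simpa using h1
    | add d e h h' =>
      rw [Finsupp.prod_add_index' (fun _ => pow_zero _) (fun _ _ _ => pow_add _ _ _), map_mul, map_add]
      exact hm h h'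
    | single i e =>
      rw [Finsupp.prod_single_index (h := fun n e => (X n : MvPolynomial σ R) ^ e) (pow_zero _), map_pow,
        Finsupp.weight_single]
      exact hp i e
  rw [f.as_sum, map_sum]
  refine sum_mem fun d h => ?_
  rw [monomial_eq, map_mul, ← zero_add m, ← hf (mem_support_iff.1 h)]
  exact hm (hC _) (hd d)

variable {r r' N : ℕ} {R : Type u} [CommRing R] {S : Type u} [CommRing S] [Algebra R S]

theorem MH_C (a : R) : MH 0 (C a : P r N R) := isWeightedHomogeneous_C _ _

theorem MH_X (i : Fin r) (j : Fin N) : MH (Pi.single i 1) (X (i, j) : P r N R) :=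
  isWeightedHomogeneous_X _ _ _

theorem MH_pr (μ : Fin r → ℕ) (f : P r N R) : MH μ (pr μ f) :=
  weightedHomogeneousComponent_isWeightedHomogeneous _ _

theorem pr_of_MH {μ : Fin r → ℕ} {f : P r N R} (hf : MH μ f) : pr μ f = f :=
  hf.weightedHomogeneousComponent_same

theorem MH_act {μ : Fin r → ℕ} {f : P r N R} (hf : MH μ f) (g : Matrix (Fin N) (Fin N) R) :
    MH μ (act g f) := by
  refine grade_hom (wt r N) (fun μ => (weightedHomogeneousSubmodule R (wt r N) μ).toAddSubmonoid)
    (isWeightedHomogeneous_one R _) (fun h h' => IsWeightedHomogeneous.mul h h')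
    ((act g : P r N R →ₐ[R] P r N R) : P r N R →+* P r N R) (fun a => ?_) (fun ij => ?_) hf
  · rw [RingHom.coe_coe, act, ev_C]
    exact MH_C a
  · obtain ⟨i, j⟩ := ij
    rw [RingHom.coe_coe, act, ev_X, Matrix.mul_apply]
    refine sum_mem fun k _ => ?_
    have := (MH_X (R := R) i k).mul (MH_C (r := r) (N := N) (g k j))
    rw [add_zero] at this
    exact this

theorem pr_act (μ : Fin r → ℕ) (g : Matrix (Fin N) (Fin N) R) (f : P r N R) :
    pr μ (act g f) = act g (pr μ f) := by
  classical
  have h : (pr μ).comp (act g : P r N R →ₐ[R] P r N R).toLinearMap =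
      (act g : P r N R →ₐ[R] P r N R).toLinearMap.comp (pr μ) := by
    refine MvPolynomial.linearMap_ext fun d => LinearMap.ext fun a => ?_
    have hd : MH (Finsupp.weight (wt r N) d) (monomial d a : P r N R) :=
      isWeightedHomogeneous_monomial _ _ _ rfl
    simp only [LinearMap.comp_apply, AlgHom.toLinearMap_apply]
    by_cases hμ : μ = Finsupp.weight (wt r N) d
    · subst hμ
      rw [pr, (MH_act hd g).weightedHomogeneousComponent_same, hd.weightedHomogeneousComponent_same]
    · rw [pr, (MH_act hd g).weightedHomogeneousComponent_ne _ hμ, hd.weightedHomogeneousComponent_ne _ hμ,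
        map_zero]
  exact LinearMap.congr_fun h f

/-- extension of a degree by `0` in the last row -/
def ext0 (μ : Fin r → ℕ) : Fin (r + 1) → ℕ := Fin.snoc (α := fun _ => ℕ) μ 0

theorem ext0_add (μ μ' : Fin r → ℕ) : ext0 (μ + μ') = ext0 μ + ext0 μ' := by
  funext i
  refine Fin.lastCases ?_ (fun i => ?_) i <;> simp [ext0]

theorem ext0_zero : ext0 (0 : Fin r → ℕ) = 0 := by
  funext i
  refine Fin.lastCases ?_ (fun i => ?_) i <;> simp [ext0]

theorem MH_incl {μ : Fin r → ℕ} {f : P r N R} (hf : MH μ f) :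
    MH (ext0 μ) (incl f : P (r + 1) N R) := by
  refine grade_hom (wt r N)
    (fun μ => (weightedHomogeneousSubmodule R (wt (r + 1) N) (ext0 μ)).toAddSubmonoid)
    (by rw [ext0_zero]; exact isWeightedHomogeneous_one R _)
    (fun {a b m n} h h' => by rw [ext0_add]; exact IsWeightedHomogeneous.mul h h')
    ((incl : P r N R →ₐ[R] P (r + 1) N R) : P r N R →+* P (r + 1) N R) (fun a => ?_) (fun ij => ?_) hf
  · rw [RingHom.coe_coe, incl, ev_C, ext0_zero]
    exact MH_C a
  · obtain ⟨i, j⟩ := ij
    rw [RingHom.coe_coe, incl, ev_X, Matrix.of_apply]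
    have h : ext0 (wt r N (i, j)) = Pi.single i.castSucc 1 := by
      funext k
      refine Fin.lastCases ?_ (fun k => ?_) k
      · simp [ext0, wt, (Fin.castSucc_lt_last i).ne']
      · simp [ext0, wt, Pi.single_apply]
    rw [h]
    exact MH_X _ _

theorem MH_taux {ν : Fin (r + 1) → ℕ} {F : P (r + 1) N R} (hF : MH ν F) (q : ℕ) :
    MH (fun i => ν i.succ) (taux q F) := by
  have key : ∀ {ν : Fin (r + 1) → ℕ} {F : P (r + 1) N R}, MH ν F →
      ∀ d, MH (fun i => ν i.succ) (coeff d (split F)) := by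
    intro ν F hF
    refine grade_hom (wt (r + 1) N)
      (fun ν => { carrier := {G : MvPolynomial (Fin N) (P r N R) | ∀ d, MH (fun i => ν i.succ) (coeff d G)}
                  add_mem' := fun h h' d => by rw [coeff_add]; exact (h d).add (h' d)
                  zero_mem' := fun d => by rw [coeff_zero]; exact isWeightedHomogeneous_zero _ _ _ })
      ?_ ?_ ((split : P (r + 1) N R →ₐ[R] MvPolynomial (Fin N) (P r N R)) : P (r + 1) N R →+* _)
      (fun a => ?_) (fun ij => ?_) hF
    · intro d
      classical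
      rw [coeff_one]
      split_ifs
      · exact isWeightedHomogeneous_one _ _
      · exact isWeightedHomogeneous_zero _ _ _
    · intro a b m n ha hb d
      classical
      rw [coeff_mul]
      exact IsWeightedHomogeneous.sum _ _ _ fun x _ => (ha x.1).mul (hb x.2)
    · intro d
      classical
      rw [RingHom.coe_coe, split, ev_C, MvPolynomial.algebraMap_apply, coeff_C]
      split_ifs
      · exact MH_C _
      · exact isWeightedHomogeneous_zero _ _ _
    · obtain ⟨i, j⟩ := ij
      intro d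
      classical
      rw [RingHom.coe_coe, split, ev_X]
      refine Fin.cases ?_ (fun i => ?_) i
      · rw [consRow_zero, coeff_X]
        have h0 : (fun i : Fin r => wt (r + 1) N (0, j) i.succ) = 0 := by
          funext k; simp [wt, Fin.succ_ne_zero]
        rw [h0]
        split_ifs
        · exact isWeightedHomogeneous_one _ _
        · exact isWeightedHomogeneous_zero _ _ _
      · rw [consRow_succ, Matrix.map_apply, coeff_C]
        have h0 : (fun k : Fin r => wt (r + 1) N (i.succ, j) k.succ) = Pi.single i 1 := by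
          funext k; simp [wt, Pi.single_apply]
        rw [h0]
        split_ifs
        · exact MH_X _ _
        · exact isWeightedHomogeneous_zero _ _ _
  exact key hF (topE N q)

theorem pol_homog {ν : Fin (r + 1) → ℕ} {F : P (r + 1) N R} (hF : MH ν F)
    (Y : Matrix (Fin r) (Fin N) S) : (pol Y F).IsHomogeneous (ν 0) := by
  refine grade_hom (wt (r + 1) N)
    (fun ν => (homogeneousSubmodule (Fin N) S (ν 0)).toAddSubmonoid)
    (isHomogeneous_one _ _) (fun h h' => IsHomogeneous.mul h h')
    ((pol Y : P (r + 1) N R →ₐ[R] MvPolynomial (Fin N) S) : P (r + 1) N R →+* _)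
    (fun a => ?_) (fun ij => ?_) hF
  · rw [RingHom.coe_coe, pol, ev_C, MvPolynomial.algebraMap_apply]
    exact isHomogeneous_C _ _
  · obtain ⟨i, j⟩ := ij
    rw [RingHom.coe_coe, pol, ev_X]
    refine Fin.cases ?_ (fun i => ?_) i
    · rw [consRow_zero]
      simpa [wt] using isHomogeneous_X S j
    · rw [consRow_succ, Matrix.map_apply]
      have h : wt (r + 1) N (i.succ, j) 0 = 0 := by simp [wt, (Fin.succ_ne_zero i).symm]
      rw [h]
      exact isHomogeneous_C _ _

end Grading

/-! ## equivariance -/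

section Equiv

variable {r N : ℕ} {R : Type u} [CommRing R] {S : Type u} [CommRing S] [Algebra R S]

theorem incl_act (g : Matrix (Fin N) (Fin N) R) (f : P r N R) :
    (incl (act g f) : P (r + 1) N R) = act g (incl f) := by
  apply ext_ev
  rw [ev_incl, ev_act, ev_act, ev_incl]
  congr 2

theorem det_gen_act (g : Matrix (Fin N) (Fin N) R) :
    act g (gen N N R).det = C g.det * (gen N N R).det := by
  rw [AlgHom.map_det]
  have h : (act g : P N N R →ₐ[R] P N N R).mapMatrix (gen N N R) =
      gen N N R * g.map (algebraMap R (P N N R)) := by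
    ext1 i j
    rw [AlgHom.mapMatrix_apply, Matrix.map_apply]
    change act g (X (i, j)) = _
    rw [act, ev_X]
  rw [h, Matrix.det_mul, mul_comm]
  congr 1
  exact ((algebraMap R (P N N R)).map_det g).symm

theorem taux_act {p : ℕ} (hT0 : T0.{u} p) [CharP R p] (s : ℕ) {ν : Fin (r + 1) → ℕ}
    {F : P (r + 1) N R} (hF : MH ν F) (hν : ν 0 = N * (p ^ s - 1)) (g : Matrix (Fin N) (Fin N) R) :
    taux (p ^ s) (act g F) = C (g.det ^ (p ^ s - 1)) * act g (taux (p ^ s) F) := by
  apply ext_ev
  rw [ev_taux, ← vact_pol, hT0 (P r N R) N s _ _ (hν ▸ pol_homog hF _), ← ev_taux, map_mul, ev_act,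
    ev_C, MvPolynomial.algebraMap_eq, map_pow]
  congr 2
  exact ((algebraMap R (P r N R)).map_det g).symm

theorem shiftArg_mul {m : ℕ} (Y : Matrix (Fin m) (Fin N) S) (g : Matrix (Fin N) (Fin N) R) :
    shiftArg (Y * g.map (algebraMap R S)) =
      shiftArg Y * g.map (algebraMap R (MvPolynomial (Fin m) S)) := by
  ext1 i j
  simp only [shiftArg, Matrix.mul_apply, Matrix.map_apply, Matrix.of_apply]
  have hC : ∀ a : R, algebraMap R (MvPolynomial (Fin m) S) a = C (algebraMap R S a) := fun a => by
    rw [IsScalarTower.algebraMap_apply R S (MvPolynomial (Fin m) S), MvPolynomial.algebraMap_eq]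
  split_ifs with h
  · simp only [map_sum, map_mul, Finset.mul_sum, Finset.sum_mul, hC]
    rw [Finset.sum_comm]
    refine Finset.sum_congr rfl fun _ _ => Finset.sum_congr rfl fun _ _ => ?_
    ring
  · simp only [map_sum, map_mul, hC]

end Equiv

section Main

variable {m : ℕ} {R : Type u} [CommRing R]

theorem MH_det {N : ℕ} : MH (1 : Fin N → ℕ) (gen N N R).det := by
  rw [Matrix.det_apply]
  refine IsWeightedHomogeneous.sum _ _ _ fun σ _ => ?_
  have h : MH (∑ i, Pi.single (σ i) 1) (∏ i, gen N N R (σ i) i) :=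
    IsWeightedHomogeneous.prod _ _ _ fun i _ => MH_X _ _
  have e : (∑ i, Pi.single (σ i) 1 : Fin N → ℕ) = 1 := by
    rw [Equiv.sum_comp σ (fun i => (Pi.single i 1 : Fin N → ℕ))]
    funext k
    simp [Finset.sum_apply, Pi.single_apply]
  rw [e] at h
  rcases Int.units_eq_one_or (Equiv.Perm.sign σ) with hs | hs
  · rw [hs, one_smul]; exact h
  · rw [hs, Units.neg_smul, one_smul]; exact h.neg

theorem nu_eq (m q : ℕ) : (q - 1) • (1 : Fin (m + 1) → ℕ) + ext0 (mu m q) = nu m q := by
  funext i
  refine Fin.lastCases ?_ (fun i => ?_) i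
  · simp [ext0, nu]
  · simp only [Pi.add_apply, Pi.smul_apply, Pi.one_apply, smul_eq_mul, mul_one, ext0, Fin.snoc_castSucc,
      mu, nu, Fin.val_castSucc]
    have : m + 1 - (i : ℕ) = (m - i) + 1 := by omega
    rw [this, add_mul, one_mul, add_comm]

theorem nu_succ (m q : ℕ) : (fun i : Fin m => nu m q i.succ) = mu m q := by
  funext i
  simp only [nu, mu, Fin.val_succ]
  congr 1
  omega

theorem nu_zero (m q : ℕ) : nu m q 0 = (m + 1) * (q - 1) := by simp [nu]

theorem sig_apply (q : ℕ) (f : P m (m + 1) R) : sig q f = (gen (m + 1) (m + 1) R).det ^ (q - 1) * incl f :=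
  rfl

theorem MH_sig {q : ℕ} {f : P m (m + 1) R} (hf : MH (mu m q) f) : MH (nu m q) (sig q f) := by
  rw [sig_apply, ← nu_eq]
  exact (MH_det.pow (q - 1)).mul (MH_incl hf)

theorem MH_taux_nu {q : ℕ} {F : P (m + 1) (m + 1) R} (hF : MH (nu m q) F) : MH (mu m q) (taux q F) := by
  rw [← nu_succ]
  exact MH_taux hF q

theorem MH_EE {q : ℕ} {f : P m (m + 1) R} (hf : MH (mu m q) f) : MH (mu m q) (EE q f) :=
  MH_taux_nu (MH_sig hf)

theorem MH_EE_pow {q : ℕ} (k : ℕ) {f : P m (m + 1) R} (hf : MH (mu m q) f) :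
    MH (mu m q) ((EE q ^ k) f) := by
  induction k with
  | zero => exact hf
  | succ k ih => rw [pow_succ', Module.End.mul_apply]; exact MH_EE ih

theorem EE_act {p : ℕ} (hT1 : T1.{u} p) [CharP R p] (s : ℕ) {f : P m (m + 1) R}
    (hf : MH (mu m (p ^ s)) f) (g : Matrix (Fin (m + 1)) (Fin (m + 1)) R) :
    EE (p ^ s) (act g f) = act g (EE (p ^ s) f) := by
  apply ext_ev
  rw [hT1 R m s _ (MH_act hf g), ev_act, ev_act, ← shiftArg_mul, hT1 R m s _ hf]

theorem EE_pow_act {p : ℕ} (hT1 : T1.{u} p) [CharP R p] (s k : ℕ) {f : P m (m + 1) R}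
    (hf : MH (mu m (p ^ s)) f) (g : Matrix (Fin (m + 1)) (Fin (m + 1)) R) :
    (EE (p ^ s) ^ k) (act g f) = act g ((EE (p ^ s) ^ k) f) := by
  induction k with
  | zero => rfl
  | succ k ih =>
    rw [pow_succ', Module.End.mul_apply, Module.End.mul_apply, ih, EE_act hT1 s (MH_EE_pow k hf)]

/-- the element to which `E ^ m` is applied in `rr` -/
noncomputable def r0 (q : ℕ) (b : P (m + 1) (m + 1) R) (t : P m (m + 1) R) : P m (m + 1) R :=
  taux q (pr (nu m q) (b * incl t))

theorem rr_apply (q : ℕ) (b : P (m + 1) (m + 1) R) (t : P m (m + 1) R) :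
    rr q b t = (EE q ^ m) (r0 q b t) := rfl

theorem MH_r0 (q : ℕ) (b : P (m + 1) (m + 1) R) (t : P m (m + 1) R) : MH (mu m q) (r0 q b t) :=
  MH_taux_nu (MH_pr _ _)

theorem MH_rr (q : ℕ) (b : P (m + 1) (m + 1) R) (t : P m (m + 1) R) : MH (mu m q) (rr q b t) :=
  MH_EE_pow m (MH_r0 q b t)

/-- **equivariance of the retraction** -/
theorem rr_act {p : ℕ} (hT0 : T0.{u} p) (hT1 : T1.{u} p) [CharP R p] (s : ℕ)
    (b : P (m + 1) (m + 1) R) (t : P m (m + 1) R) (g : Matrix (Fin (m + 1)) (Fin (m + 1)) R) :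
    rr (p ^ s) (act g b) (act g t) = C (g.det ^ (p ^ s - 1)) * act g (rr (p ^ s) b t) := by
  have h1 : r0 (p ^ s) (act g b) (act g t) = C (g.det ^ (p ^ s - 1)) * act g (r0 (p ^ s) b t) := by
    rw [r0, incl_act, ← map_mul, pr_act, taux_act hT0 s (MH_pr _ _) (nu_zero m _)]
    rfl
  rw [rr_apply, h1, C_mul', map_smul, EE_pow_act hT1 s m (MH_r0 _ b t), C_mul', rr_apply]

theorem rr_det {q : ℕ} {t : P m (m + 1) R} (ht : MH (mu m q) t) (hE : EE q t = t) :
    rr q ((gen (m + 1) (m + 1) R).det ^ (q - 1)) t = t := by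
  have h0 : r0 q ((gen (m + 1) (m + 1) R).det ^ (q - 1)) t = t := by
    rw [r0, ← sig_apply, pr, (MH_sig ht).weightedHomogeneousComponent_same]
    exact hE
  rw [rr_apply, h0]
  have : ∀ k : ℕ, (EE q ^ k) t = t := by
    intro k
    induction k with
    | zero => rfl
    | succ k ih => rw [pow_succ, Module.End.mul_apply, hE, ih]
  exact this m

theorem neg_one_pow_of_char (p s : ℕ) [Fact p.Prime] [CharP R p] : (-1 : R) ^ (p ^ s - 1) = 1 := by
  rcases (Fact.out : p.Prime).eq_two_or_odd' with h | h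
  · subst h
    have : (-1 : R) = 1 := CharTwo.neg_eq 1
    rw [this, one_pow]
  · exact Even.neg_one_pow (Nat.Odd.sub_odd h.pow odd_one)

theorem EE_of_isT {p : ℕ} [Fact p.Prime] (hT1 : T1.{u} p) (hT3 : T3.{u}) [CharP R p] (s : ℕ)
    {t : P m (m + 1) R} (ht : IsT (p ^ s) t) : EE (p ^ s) t = t := by
  apply ext_ev
  rw [hT1 R m s _ ht.1, hT3 R m _ (neg_one_pow_of_char p s) t ht]

theorem rr_det_of_isT {p : ℕ} [Fact p.Prime] (hT1 : T1.{u} p) (hT3 : T3.{u}) [CharP R p] (s : ℕ)
    {t : P m (m + 1) R} (ht : IsT (p ^ s) t) :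
    rr (p ^ s) ((gen (m + 1) (m + 1) R).det ^ (p ^ s - 1)) t = t :=
  rr_det ht.1 (EE_of_isT hT1 hT3 s ht)

/-- the values of the retraction are in `T` -/
theorem EE_pow_isT (hT2 : T2.{u}) {q : ℕ} {f : P m (m + 1) R} (hf : MH (mu m q) f) :
    IsT q ((EE q ^ m) f) := by
  have h : ∀ k : ℕ, k ≤ m → Inv (m - k) ((EE q ^ k) f) := by
    intro k
    induction k with
    | zero =>
      intro _ S _ _ Y c i j _ hj
      exact absurd j.2 (by omega)
    | succ k ih =>
      intro hk
      rw [pow_succ', Module.End.mul_apply]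
      refine (hT2 R m q _ (MH_EE_pow k hf)).2 _ ?_
      have : m - (k + 1) + 1 = m - k := by omega
      rw [this]
      exact ih (by omega)
  refine ⟨MH_EE_pow m hf, ?_⟩
  have := h m le_rfl
  rwa [Nat.sub_self] at this

theorem rr_isT (hT2 : T2.{u}) (q : ℕ) (b : P (m + 1) (m + 1) R) (t : P m (m + 1) R) :
    IsT q (rr q b t) :=
  EE_pow_isT hT2 (MH_r0 q b t)

end Main

/-! ## the module `T` -/

section TMod

variable {m : ℕ} {R : Type u} [CommRing R]

theorem Inv_add {r N a : ℕ} {f f' : P r N R} (h : Inv a f) (h' : Inv a f') : Inv a (f + f') := by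
  intro S _ _ Y c i j hij hj
  rw [map_add, map_add, h S Y c i j hij hj, h' S Y c i j hij hj]

theorem Inv_smul {r N a : ℕ} {f : P r N R} (x : R) (h : Inv a f) : Inv a (x • f) := by
  intro S _ _ Y c i j hij hj
  rw [map_smul, map_smul, h S Y c i j hij hj]

theorem Inv_zero {r N a : ℕ} : Inv a (0 : P r N R) := by
  intro S _ _ Y c i j _ _
  rw [map_zero, map_zero]

theorem Inv_act {r N a : ℕ} {f : P r N R} (h : Inv a f) (g : Matrix (Fin N) (Fin N) R) :
    Inv a (act g f) := by
  intro S _ _ Y c i j hij hj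
  have e : Y.updateRow j (Y j + c • Y i) * g.map (algebraMap R S) =
      (Y * g.map (algebraMap R S)).updateRow j
        ((Y * g.map (algebraMap R S)) j + c • (Y * g.map (algebraMap R S)) i) := by
    ext k l
    by_cases hk : k = j
    · subst hk
      simp only [Matrix.mul_apply, Matrix.updateRow_self, Pi.add_apply, Pi.smul_apply, smul_eq_mul,
        add_mul, Finset.sum_add_distrib, Finset.mul_sum, mul_assoc]
    · simp only [Matrix.mul_apply, Matrix.updateRow_ne hk]
  rw [ev_act, ev_act, e, h S _ c i j hij hj]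

theorem isT_act {q : ℕ} {f : P m (m + 1) R} (h : IsT q f) (g : Matrix (Fin (m + 1)) (Fin (m + 1)) R) :
    IsT q (act g f) := ⟨MH_act h.1 g, Inv_act h.2 g⟩

/-- `T` as a submodule -/
def Tsub (m : ℕ) (R : Type u) [CommRing R] (q : ℕ) : Submodule R (P m (m + 1) R) where
  carrier := {f | IsT q f}
  add_mem' h h' := ⟨h.1.add h'.1, Inv_add h.2 h'.2⟩
  zero_mem' := ⟨isWeightedHomogeneous_zero _ _ _, Inv_zero⟩
  smul_mem' x _ h := ⟨(weightedHomogeneousSubmodule R (wt m (m + 1)) (mu m q)).smul_mem x h.1, Inv_smul x h.2⟩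

theorem mem_Tsub {q : ℕ} {f : P m (m + 1) R} : f ∈ Tsub m R q ↔ IsT q f := Iff.rfl

end TMod

/-! ## base change -/

section Base

variable {r N m : ℕ} {R : Type u} [CommRing R] {R' : Type u} [CommRing R'] (φ : R →+* R')

theorem map_act (g : Matrix (Fin N) (Fin N) R) (f : P r N R) :
    MvPolynomial.map φ (act g f) = act (g.map φ) (MvPolynomial.map φ f) := by
  have h : (MvPolynomial.map φ).comp ((act g : P r N R →ₐ[R] P r N R) : P r N R →+* P r N R) =
      ((act (g.map φ) : P r N R' →ₐ[R'] P r N R') : P r N R' →+* P r N R').comp (MvPolynomial.map φ) := by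
    refine MvPolynomial.ringHom_ext (fun a => ?_) (fun ij => ?_)
    · simp only [RingHom.comp_apply, RingHom.coe_coe, MvPolynomial.map_C, algHom_C,
        MvPolynomial.algebraMap_eq]
    · simp only [RingHom.comp_apply, RingHom.coe_coe, MvPolynomial.map_X, act, ev_X, Matrix.mul_apply,
        map_sum, map_mul, gen, Matrix.of_apply, Matrix.map_apply, MvPolynomial.algebraMap_eq,
        MvPolynomial.map_C]
  exact RingHom.congr_fun h f

theorem map_incl (f : P r N R) :
    MvPolynomial.map φ (incl f : P (r + 1) N R) = incl (MvPolynomial.map φ f) := by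
  have h : (MvPolynomial.map φ).comp ((incl : P r N R →ₐ[R] P (r + 1) N R) : P r N R →+* P (r + 1) N R) =
      ((incl : P r N R' →ₐ[R'] P (r + 1) N R') : P r N R' →+* P (r + 1) N R').comp
        (MvPolynomial.map φ) := by
    refine MvPolynomial.ringHom_ext (fun a => ?_) (fun ij => ?_)
    · simp only [RingHom.comp_apply, RingHom.coe_coe, MvPolynomial.map_C, algHom_C,
        MvPolynomial.algebraMap_eq]
    · simp only [RingHom.comp_apply, RingHom.coe_coe, MvPolynomial.map_X, incl, ev_X, Matrix.of_apply]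
  exact RingHom.congr_fun h f

theorem map_split (f : P (r + 1) N R) :
    MvPolynomial.map (MvPolynomial.map φ) (split f) = split (MvPolynomial.map φ f) := by
  have h : (MvPolynomial.map (σ := Fin N) (MvPolynomial.map (σ := Fin r × Fin N) φ)).comp
      ((split : P (r + 1) N R →ₐ[R] _) : P (r + 1) N R →+* _) =
      ((split : P (r + 1) N R' →ₐ[R'] _) : P (r + 1) N R' →+* _).comp (MvPolynomial.map φ) := by
    refine MvPolynomial.ringHom_ext (fun a => ?_) (fun ij => ?_)
    · simp only [RingHom.comp_apply, RingHom.coe_coe, MvPolynomial.map_C, split, ev_C,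
        MvPolynomial.algebraMap_apply, MvPolynomial.algebraMap_eq]
    · obtain ⟨i, j⟩ := ij
      simp only [RingHom.comp_apply, RingHom.coe_coe, MvPolynomial.map_X, split, ev_X]
      refine Fin.cases ?_ (fun i => ?_) i
      · simp only [consRow_zero, MvPolynomial.map_X]
      · simp only [consRow_succ, Matrix.map_apply, MvPolynomial.map_C, gen, Matrix.of_apply,
          MvPolynomial.map_X]
  exact RingHom.congr_fun h f

theorem map_taux (q : ℕ) (f : P (r + 1) N R) :
    MvPolynomial.map φ (taux q f) = taux q (MvPolynomial.map φ f) := by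
  have h1 : (taux q f : P r N R) = tau q (split f) := rfl
  have h2 : (taux q (MvPolynomial.map φ f) : P r N R') = tau q (split (MvPolynomial.map φ f)) := rfl
  rw [h1, h2, ← map_split]
  simp only [tau, lcoeff_apply, coeff_map]

theorem map_pr (μ : Fin r → ℕ) (f : P r N R) :
    MvPolynomial.map φ (pr μ f) = pr μ (MvPolynomial.map φ f) := by
  classical
  ext d
  rw [coeff_map, pr, pr, coeff_weightedHomogeneousComponent, coeff_weightedHomogeneousComponent, coeff_map]
  split_ifs
  · rfl
  · exact map_zero _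

theorem map_gen : (gen r N R).map (MvPolynomial.map φ) = gen r N R' := by
  ext1 i j
  exact MvPolynomial.map_X φ (i, j)

theorem map_det_gen : MvPolynomial.map φ (gen N N R).det = (gen N N R').det := by
  rw [RingHom.map_det, RingHom.mapMatrix_apply, map_gen]

theorem map_sig (q : ℕ) (f : P m (m + 1) R) :
    MvPolynomial.map φ (sig q f) = sig q (MvPolynomial.map φ f) := by
  rw [sig_apply, sig_apply, map_mul, map_pow, map_det_gen, map_incl]

theorem map_EE (q : ℕ) (f : P m (m + 1) R) :
    MvPolynomial.map φ (EE q f) = EE q (MvPolynomial.map φ f) := by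
  change MvPolynomial.map φ (taux q (sig q f)) = taux q (sig q (MvPolynomial.map φ f))
  rw [map_taux, map_sig]

theorem map_EE_pow (q k : ℕ) (f : P m (m + 1) R) :
    MvPolynomial.map φ ((EE q ^ k) f) = (EE q ^ k) (MvPolynomial.map φ f) := by
  induction k with
  | zero => rfl
  | succ k ih => rw [pow_succ', pow_succ', Module.End.mul_apply, Module.End.mul_apply, map_EE, ih]

theorem map_r0 (q : ℕ) (b : P (m + 1) (m + 1) R) (t : P m (m + 1) R) :
    MvPolynomial.map φ (r0 q b t) = r0 q (MvPolynomial.map φ b) (MvPolynomial.map φ t) := by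
  rw [r0, r0, map_taux, map_pr, map_mul, map_incl]

/-- **base change of the retraction** -/
theorem map_rr (q : ℕ) (b : P (m + 1) (m + 1) R) (t : P m (m + 1) R) :
    MvPolynomial.map φ (rr q b t) = rr q (MvPolynomial.map φ b) (MvPolynomial.map φ t) := by
  rw [rr_apply, rr_apply, map_EE_pow, map_r0]

theorem MH_map {μ : Fin r → ℕ} {f : P r N R} (hf : MH μ f) : MH μ (MvPolynomial.map φ f) := by
  intro d hd
  rw [coeff_map] at hd
  exact hf fun h => hd (by rw [h, map_zero])

theorem Inv_map {a : ℕ} {f : P r N R} (hf : Inv a f) : Inv a (MvPolynomial.map φ f) := by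
  intro S _ _ Y c i j hij hj
  let _ : Algebra R S := ((algebraMap R' S).comp φ).toAlgebra
  have e : ∀ Z : Matrix (Fin r) (Fin N) S, ev Z (MvPolynomial.map φ f) = ev Z f := by
    intro Z
    rw [ev, ev, aeval_def, aeval_def, eval₂_map]
    rfl
  rw [e, e]
  exact hf S Y c i j hij hj

theorem isT_map {q : ℕ} {f : P m (m + 1) R} (h : IsT q f) : IsT q (MvPolynomial.map φ f) :=
  ⟨MH_map φ h.1, Inv_map φ h.2⟩

end Base

end Groth.Agent.ResProp.EF.K959
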