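import Groth.Agent.ResProp.EF.K65.Out
import Groth.Agent.HopfRep.K187.HochMap

/-!
# Functoriality of cochains and the cochain pieces of Lemma S (S16912, block G2d)

In the language of `EF/Grp.lean` and `EF/K65/Out.lean`:

* `cmap_d` : `cmap` commutes with `d` for morphisms of modules; `isCob_cmap`, `cmap_cocycle`; `cmap_id`, `cmap_comp`;
* `homP_res`, `isComodHom_res` : restriction along `φ : O(G) → O(H)`;
* `isComodHom_lTensor` : `M ⊗ f` is a morphism if `f` is one; `isComodHom_lTensor_of_homP` : the same for a morphism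
  modulo `p` if `p M = 0` (also for `M` an `H`-module and `f` a morphism mod `p` of `G`-modules, `.._res`);
* `cmap_injective` : `M ⊗ f` is injective on cochains if `p M = 0` and `InjP p f`;
* `exists_finset_cmap` : every cochain of `M ⊗ Y` comes from `M ⊗ X` as soon as a finite set of `Y` lies in the
  range of `f : X → Y`;
* `cmap_tmulR_congr` : `c ⊗ x` only depends on `x` modulo `p` if `p M = 0`.
-/

set_option autoImplicit false

universe u

open TensorProduct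

noncomputable section

namespace Groth.Agent.ResProp.EF.K959

open Grp K65

variable {k : Type u} [CommRing k] {E : Gp k}

/-! ### functoriality -/

theorem cmap_eq_map (M N : GMod E) (f : M.V →ₗ[k] N.V) (n : ℕ) :
    cmap M N f n = K187.HochMap.map k E.O f n := by
  induction n with
  | zero => rfl
  | succ n ih =>
    change (cmap M N f n).rTensor E.O = (K187.HochMap.map k E.O f n).rTensor E.O
    rw [ih]

theorem cmap_zero (M N : GMod E) (f : M.V →ₗ[k] N.V) : cmap M N f 0 = f := rfl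

theorem cmap_succ (M N : GMod E) (f : M.V →ₗ[k] N.V) (n : ℕ) :
    cmap M N f (n + 1) = (cmap M N f n).rTensor E.O := rfl

theorem cmap_id (M : GMod E) (n : ℕ) : cmap M M LinearMap.id n = LinearMap.id := by
  rw [cmap_eq_map]; exact K187.HochMap.map_id k E.O n

theorem cmap_comp (M N P : GMod E) (g : N.V →ₗ[k] P.V) (f : M.V →ₗ[k] N.V) (n : ℕ) :
    cmap M P (g ∘ₗ f) n = cmap N P g n ∘ₗ cmap M N f n := by
  rw [cmap_eq_map, cmap_eq_map, cmap_eq_map]; exact K187.HochMap.map_comp k E.O g f n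

theorem cmap_comp_apply (M N P : GMod E) (g : N.V →ₗ[k] P.V) (f : M.V →ₗ[k] N.V) (n : ℕ) (c : M.C n) :
    cmap N P g n (cmap M N f n c) = cmap M P (g ∘ₗ f) n c := by
  rw [cmap_comp M N P g f n]; rfl

/-- **`cmap` commutes with `d`** for morphisms of modules. -/
theorem cmap_d (M N : GMod E) {f : M.V →ₗ[k] N.V} (hf : Hoch.IsComodHom E.O f) (n : ℕ) (c : M.C n) :
    N.d n (cmap M N f n c) = cmap M N f (n + 1) (M.d n c) := by
  rw [cmap_eq_map, cmap_eq_map]; exact K187.HochMap.d_map_apply k E.O hf n c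

theorem cmap_cocycle (M N : GMod E) {f : M.V →ₗ[k] N.V} (hf : Hoch.IsComodHom E.O f) (n : ℕ) {c : M.C n}
    (hc : M.d n c = 0) : N.d n (cmap M N f n c) = 0 := by
  rw [cmap_d M N hf, hc, map_zero]

theorem isCob_cmap (M N : GMod E) {f : M.V →ₗ[k] N.V} (hf : Hoch.IsComodHom E.O f) (n : ℕ) {c : M.C (n + 1)}
    (hc : IsCob M n c) : IsCob N n (cmap M N f (n + 1) c) := by
  obtain ⟨b, rfl⟩ := hc
  exact ⟨cmap M N f n b, cmap_d M N hf n b⟩

/-! ### tensor products -/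

/-- `(M ⊗ O) ⊗ (N ⊗ O) → (M ⊗ N) ⊗ O`, multiplying the two copies of `O` -/
def mm (M N : GMod E) : (M.V ⊗[k] E.O) ⊗[k] (N.V ⊗[k] E.O) →ₗ[k] (M.V ⊗[k] N.V) ⊗[k] E.O :=
  TensorProduct.map LinearMap.id (LinearMap.mul' k E.O) ∘ₗ
    (AlgebraTensorModule.tensorTensorTensorComm k k k k M.V E.O N.V E.O).toLinearMap

theorem tens_coact (M N : GMod E) (m : M.V) (x : N.V) :
    (M.tens N).co.coact (m ⊗ₜ[k] x) = mm M N (M.co.coact m ⊗ₜ[k] N.co.coact x) := rfl

theorem mm_tmul (M N : GMod E) (m : M.V) (a : E.O) (x : N.V) (b : E.O) :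
    mm M N ((m ⊗ₜ[k] a) ⊗ₜ[k] (x ⊗ₜ[k] b)) = (m ⊗ₜ[k] x) ⊗ₜ[k] (a * b) := by
  simp [mm]

theorem mm_lTensor (M X Y : GMod E) (f : X.V →ₗ[k] Y.V) (z : (M.V ⊗[k] E.O) ⊗[k] (X.V ⊗[k] E.O)) :
    mm M Y ((f.rTensor E.O).lTensor (M.V ⊗[k] E.O) z) = (f.lTensor M.V).rTensor E.O (mm M X z) := by
  have h : mm M Y ∘ₗ (f.rTensor E.O).lTensor (M.V ⊗[k] E.O) = (f.lTensor M.V).rTensor E.O ∘ₗ mm M X := by
    ext m a x b
    simp [mm_tmul]
  exact LinearMap.congr_fun h z

theorem mm_rTensor (M N X : GMod E) (f : M.V →ₗ[k] N.V) (z : (M.V ⊗[k] E.O) ⊗[k] (X.V ⊗[k] E.O)) :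
    mm N X ((f.rTensor E.O).rTensor (X.V ⊗[k] E.O) z) = (f.rTensor X.V).rTensor E.O (mm M X z) := by
  have h : mm N X ∘ₗ (f.rTensor E.O).rTensor (X.V ⊗[k] E.O) = (f.rTensor X.V).rTensor E.O ∘ₗ mm M X := by
    ext m a x b
    simp [mm_tmul]
  exact LinearMap.congr_fun h z

/-- `M ⊗ f` is a morphism of modules if `p M = 0` and `f` is one modulo `p` -/
theorem isComodHom_lTensor_of_homP (p : ℕ) (M X Y : GMod E) (hM : ∀ m : M.V, (p : k) • m = 0)
    {f : X.V →ₗ[k] Y.V} (hf : HomP p X Y f) :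
    @Hoch.IsComodHom k _ E.O _ _ _ (M.tens X).V _ _ (M.tens X).co (M.tens Y).V _ _ (M.tens Y).co
      (f.lTensor M.V) := by
  refine TensorProduct.ext' fun m x => ?_
  change (M.tens Y).co.coact (m ⊗ₜ[k] f x) = (f.lTensor M.V).rTensor E.O ((M.tens X).co.coact (m ⊗ₜ[k] x))
  obtain ⟨y, hy⟩ := hf x
  rw [tens_coact, tens_coact, ← mm_lTensor, LinearMap.lTensor_tmul, ← sub_eq_zero, ← map_sub,
    ← TensorProduct.tmul_sub, hy, ← TensorProduct.smul_tmul, ← map_smul, hM, map_zero, TensorProduct.zero_tmul,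
    map_zero]

/-- a morphism is a morphism modulo `p` -/
theorem homP_of_isComodHom (p : ℕ) (X Y : GMod E) {f : X.V →ₗ[k] Y.V} (hf : Hoch.IsComodHom E.O f) :
    HomP p X Y f := fun x => ⟨0, by
  have h : Y.co.coact (f x) = f.rTensor E.O (X.co.coact x) := LinearMap.congr_fun hf x
  rw [h, sub_self, smul_zero]⟩

theorem isComodHom_lTensor (M X Y : GMod E) {f : X.V →ₗ[k] Y.V} (hf : Hoch.IsComodHom E.O f) :
    @Hoch.IsComodHom k _ E.O _ _ _ (M.tens X).V _ _ (M.tens X).co (M.tens Y).V _ _ (M.tens Y).co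
      (f.lTensor M.V) := by
  refine TensorProduct.ext' fun m x => ?_
  change (M.tens Y).co.coact (m ⊗ₜ[k] f x) = (f.lTensor M.V).rTensor E.O ((M.tens X).co.coact (m ⊗ₜ[k] x))
  have h : Y.co.coact (f x) = f.rTensor E.O (X.co.coact x) := LinearMap.congr_fun hf x
  rw [tens_coact, tens_coact, ← mm_lTensor, LinearMap.lTensor_tmul, h]

theorem isComodHom_rTensor (M N X : GMod E) {f : M.V →ₗ[k] N.V} (hf : Hoch.IsComodHom E.O f) :
    @Hoch.IsComodHom k _ E.O _ _ _ (M.tens X).V _ _ (M.tens X).co (N.tens X).V _ _ (N.tens X).co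
      (f.rTensor X.V) := by
  refine TensorProduct.ext' fun m x => ?_
  change (N.tens X).co.coact (f m ⊗ₜ[k] x) = (f.rTensor X.V).rTensor E.O ((M.tens X).co.coact (m ⊗ₜ[k] x))
  have h : N.co.coact (f m) = f.rTensor E.O (M.co.coact m) := LinearMap.congr_fun hf m
  rw [tens_coact, tens_coact, ← mm_rTensor, LinearMap.rTensor_tmul, h]

/-! ### restriction along `φ : O(G) → O(H)` -/

section Res

variable {G H : Gp k} (φ : G.O →ₐc[k] H.O)

/-- `id ⊗ φ` -/
abbrev idφ (V : Type u) [AddCommGroup V] [Module k V] : V ⊗[k] G.O →ₗ[k] V ⊗[k] H.O :=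
  TensorProduct.map LinearMap.id (φ : G.O →ₗ[k] H.O)

theorem res_coact (X : GMod G) (x : X.V) : (X.res φ).co.coact x = idφ φ X.V (X.co.coact x) := rfl

theorem idφ_rTensor {X Y : Type u} [AddCommGroup X] [Module k X] [AddCommGroup Y] [Module k Y] (f : X →ₗ[k] Y)
    (z : X ⊗[k] G.O) : f.rTensor H.O (idφ φ X z) = idφ φ Y (f.rTensor G.O z) := by
  have h : f.rTensor H.O ∘ₗ idφ φ X = idφ φ Y ∘ₗ f.rTensor G.O := by
    ext x a; simp
  exact LinearMap.congr_fun h z

theorem homP_res (p : ℕ) (X Y : GMod G) {f : X.V →ₗ[k] Y.V} (hf : HomP p X Y f) :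
    HomP p (X.res φ) (Y.res φ) f := by
  intro x
  obtain ⟨y, hy⟩ := hf x
  refine ⟨idφ φ Y.V y, ?_⟩
  rw [res_coact, res_coact, idφ_rTensor, ← map_sub, hy, map_smul]

theorem isComodHom_res (X Y : GMod G) {f : X.V →ₗ[k] Y.V} (hf : Hoch.IsComodHom G.O f) :
    @Hoch.IsComodHom k _ H.O _ _ _ (X.res φ).V _ _ (X.res φ).co (Y.res φ).V _ _ (Y.res φ).co f := by
  refine LinearMap.ext fun x => ?_
  change (Y.res φ).co.coact (f x) = f.rTensor H.O ((X.res φ).co.coact x)
  have h : Y.co.coact (f x) = f.rTensor G.O (X.co.coact x) := LinearMap.congr_fun hf x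
  rw [res_coact, res_coact, idφ_rTensor, h]

/-- `M` a module over `H` killed by `p`, `f` a morphism of `G`-modules modulo `p`: `M ⊗ f` is a morphism of
`H`-modules -/
theorem isComodHom_lTensor_res (p : ℕ) (M : GMod H) (hM : ∀ m : M.V, (p : k) • m = 0) (X Y : GMod G)
    {f : X.V →ₗ[k] Y.V} (hf : HomP p X Y f) :
    @Hoch.IsComodHom k _ H.O _ _ _ (M.tens (X.res φ)).V _ _ (M.tens (X.res φ)).co (M.tens (Y.res φ)).V _ _
      (M.tens (Y.res φ)).co (f.lTensor M.V) :=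
  isComodHom_lTensor_of_homP p M (X.res φ) (Y.res φ) hM (homP_res φ p X Y hf)

end Res

/-! ### cochains of `M ⊗ X`: injectivity and finiteness -/

section Perm

variable (M : GMod E)

/-- `C^n(M ⊗ X) = C^n(M) ⊗ X` as modules -/
def perm (X : GMod E) : (n : ℕ) → ((M.tens X).C n ≃ₗ[k] (M.C n) ⊗[k] X.V)
  | 0 => LinearEquiv.refl k _
  | n + 1 => (TensorProduct.congr (perm X n) (LinearEquiv.refl k E.O)).trans
      (TensorProduct.rightComm k (M.C n) X.V E.O)

theorem perm_succ (X : GMod E) (n : ℕ) (z : (M.tens X).C n) (a : E.O) :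
    perm M X (n + 1) (z ⊗ₜ[k] a) = TensorProduct.rightComm k (M.C n) X.V E.O (perm M X n z ⊗ₜ[k] a) := rfl

theorem perm_cmap (X Y : GMod E) (f : X.V →ₗ[k] Y.V) (n : ℕ) (z : (M.tens X).C n) :
    perm M Y n (cmap (M.tens X) (M.tens Y) (f.lTensor M.V) n z) = f.lTensor (M.C n) (perm M X n z) := by
  induction n with
  | zero => rfl
  | succ n ih =>
    have h : (perm M Y (n + 1)).toLinearMap ∘ₗ cmap (M.tens X) (M.tens Y) (f.lTensor M.V) (n + 1) =
        f.lTensor (M.C (n + 1)) ∘ₗ (perm M X (n + 1)).toLinearMap := by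
      refine TensorProduct.ext' fun z a => ?_
      change perm M Y (n + 1) (cmap (M.tens X) (M.tens Y) (f.lTensor M.V) n z ⊗ₜ[k] a) =
        f.lTensor (M.C (n + 1)) (perm M X (n + 1) (z ⊗ₜ[k] a))
      rw [perm_succ, perm_succ, ih]
      have h2 : (TensorProduct.rightComm k (M.C n) Y.V E.O).toLinearMap ∘ₗ
          (TensorProduct.mk k (M.C n ⊗[k] Y.V) E.O).flip a ∘ₗ f.lTensor (M.C n) =
          f.lTensor (M.C (n + 1)) ∘ₗ (TensorProduct.rightComm k (M.C n) X.V E.O).toLinearMap ∘ₗ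
            (TensorProduct.mk k (M.C n ⊗[k] X.V) E.O).flip a := by
        refine TensorProduct.ext' fun w x => ?_
        simp
      exact LinearMap.congr_fun h2 (perm M X n z)
    exact LinearMap.congr_fun h z

theorem smul_C (p : ℕ) (hM : ∀ m : M.V, (p : k) • m = 0) (n : ℕ) (c : M.C n) : (p : k) • c = 0 := by
  induction n with
  | zero => exact hM c
  | succ n ih =>
    change (p : k) • (c : M.C n ⊗[k] E.O) = 0
    induction c using TensorProduct.induction_on with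
    | zero => exact smul_zero _
    | tmul x y => rw [TensorProduct.smul_tmul', ih x, TensorProduct.zero_tmul]
    | add x y hx hy => rw [smul_add, hx, hy, add_zero]

/-- `M ⊗ f` is injective on cochains if `p M = 0` and `f` is injective modulo `p` -/
theorem cmap_injective (p : ℕ) (hM : ∀ m : M.V, (p : k) • m = 0) (X Y : GMod E) {f : X.V →ₗ[k] Y.V}
    (hf : InjP p f) (n : ℕ) : Function.Injective (cmap (M.tens X) (M.tens Y) (f.lTensor M.V) n) := by
  intro z z' h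
  have h1 := congrArg (perm M Y n) h
  rw [perm_cmap, perm_cmap] at h1
  exact (perm M X n).injective (hf (M.C n) (smul_C M p hM n) h1)

/-- every cochain of `M ⊗ Y` comes from `M ⊗ X` if a finite set of elements of `Y` lies in the range of `f` -/
theorem exists_finset_cmap (Y : GMod E) (n : ℕ) (b : (M.tens Y).C n) :
    ∃ F : Finset Y.V, ∀ (X : GMod E) (f : X.V →ₗ[k] Y.V), (∀ a ∈ F, a ∈ LinearMap.range f) →
      ∃ b' : (M.tens X).C n, cmap (M.tens X) (M.tens Y) (f.lTensor M.V) n b' = b := by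
  classical
  have key : ∀ w : M.C n ⊗[k] Y.V, ∃ F : Finset Y.V, ∀ (X : GMod E) (f : X.V →ₗ[k] Y.V),
      (∀ a ∈ F, a ∈ LinearMap.range f) → ∃ w' : M.C n ⊗[k] X.V, f.lTensor (M.C n) w' = w := by
    intro w
    induction w using TensorProduct.induction_on with
    | zero => exact ⟨∅, fun X f _ => ⟨0, map_zero _⟩⟩
    | tmul c y =>
      refine ⟨{y}, fun X f h => ?_⟩
      obtain ⟨x, hx⟩ := h y (Finset.mem_singleton_self y)
      exact ⟨c ⊗ₜ[k] x, by rw [LinearMap.lTensor_tmul, hx]⟩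
    | add w₁ w₂ h₁ h₂ =>
      obtain ⟨F₁, h₁⟩ := h₁
      obtain ⟨F₂, h₂⟩ := h₂
      refine ⟨F₁ ∪ F₂, fun X f h => ?_⟩
      obtain ⟨x₁, hx₁⟩ := h₁ X f fun a ha => h a (Finset.mem_union_left _ ha)
      obtain ⟨x₂, hx₂⟩ := h₂ X f fun a ha => h a (Finset.mem_union_right _ ha)
      exact ⟨x₁ + x₂, by rw [map_add, hx₁, hx₂]⟩
  obtain ⟨F, hF⟩ := key (perm M Y n b)
  refine ⟨F, fun X f h => ?_⟩
  obtain ⟨w', hw'⟩ := hF X f h
  refine ⟨(perm M X n).symm w', (perm M Y n).injective ?_⟩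
  rw [perm_cmap, LinearEquiv.apply_symm_apply, hw']

/-! ### `c ⊗ x` -/

theorem lTensor_comp_tmulR (X Y : GMod E) (f : X.V →ₗ[k] Y.V) (x : X.V) :
    f.lTensor M.V ∘ₗ tmulR M X x = tmulR M Y (f x) := by
  refine LinearMap.ext fun m => ?_
  simp [tmulR]

theorem cmap_lTensor_tmulR (X Y : GMod E) (f : X.V →ₗ[k] Y.V) (x : X.V) (n : ℕ) (c : M.C n) :
    cmap (M.tens X) (M.tens Y) (f.lTensor M.V) n (cmap M (M.tens X) (tmulR M X x) n c) =
      cmap M (M.tens Y) (tmulR M Y (f x)) n c := by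
  rw [cmap_comp_apply, lTensor_comp_tmulR]

/-- `c ⊗ x` only depends on `x` modulo `p` if `p M = 0` -/
theorem tmulR_congr (p : ℕ) (hM : ∀ m : M.V, (p : k) • m = 0) (X : GMod E) (x x' y : X.V)
    (h : x = x' + (p : k) • y) : tmulR M X x = tmulR M X x' := by
  refine LinearMap.ext fun m => ?_
  change m ⊗ₜ[k] x = m ⊗ₜ[k] x'
  rw [h, TensorProduct.tmul_add, ← TensorProduct.smul_tmul, hM, TensorProduct.zero_tmul, add_zero]

/-- if `x` is invariant modulo `p` and `p M = 0` then `m ↦ m ⊗ x` is a morphism of modules -/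
theorem isComodHom_tmulR (p : ℕ) (hM : ∀ m : M.V, (p : k) • m = 0) (X : GMod E) (x : X.V)
    (h : ∃ y : X.V ⊗[k] E.O, X.co.coact x = x ⊗ₜ[k] 1 + (p : k) • y) :
    @Hoch.IsComodHom k _ E.O _ _ _ M.V _ _ M.co (M.tens X).V _ _ (M.tens X).co (tmulR M X x) := by
  refine LinearMap.ext fun m => ?_
  obtain ⟨y, hy⟩ := h
  change (M.tens X).co.coact (m ⊗ₜ[k] x) = (tmulR M X x).rTensor E.O (M.co.coact m)
  rw [tens_coact, hy, TensorProduct.tmul_add, ← TensorProduct.smul_tmul, ← map_smul, hM, map_zero,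
    TensorProduct.zero_tmul, add_zero]
  have h2 : mm M X ∘ₗ (TensorProduct.mk k (M.V ⊗[k] E.O) (X.V ⊗[k] E.O)).flip (x ⊗ₜ[k] 1) =
      (tmulR M X x).rTensor E.O := by
    refine TensorProduct.ext' fun m a => ?_
    change mm M X ((m ⊗ₜ[k] a) ⊗ₜ[k] (x ⊗ₜ[k] 1)) = (m ⊗ₜ[k] x) ⊗ₜ[k] a
    rw [mm_tmul, mul_one]
  exact LinearMap.congr_fun h2 (M.co.coact m)

end Perm

end Groth.Agent.ResProp.EF.K959
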