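import Groth.Agent.ResProp.EF.K959.Desc

/-!
# Finite powers of descent data (S16912, AD4)

`I` a finite type.  `powE ψ : BC x (I → K) ≃ BC y (I → K')` for `ψ : BC x K ≃ BC y K'`, characterised by
`map (proj i) (powE ψ z) = ψ (map (proj i) z)`; `Desc.pow s I : Desc A (I → K)`.
-/

set_option autoImplicit false
set_option linter.dupNamespace false

open CategoryTheory Opposite

noncomputable section

namespace Groth.Agent.ResProp.EF.K959

open K784.BC K784.PM K741.RP EF56 K980 K980.BC

universe u v w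

section PowE

variable {R R' R'' : Type*} [CommRing R] [CommRing R'] [CommRing R''] {x y z : R →+* R'} {x' y' : R →+* R''}
  {f : R' →+* R''} {K K' K'' : Type*} [AddCommGroup K] [Module R K] [AddCommGroup K'] [Module R K']
  [AddCommGroup K''] [Module R K''] (I : Type*)

/-- two elements of `BC x (I → K)` with the same projections are equal (`I` finite) -/
theorem pow_ext [Finite I] {m n : BC x (I → K)}
    (h : ∀ i : I, BC.map x (LinearMap.proj i : (I → K) →ₗ[R] K) m = BC.map x (LinearMap.proj i) n) : m = n := by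
  classical
  have := Fintype.ofFinite I
  have key : ∀ m : BC x (I → K), m = ∑ i : I, BC.map x (LinearMap.single R (fun _ => K) i)
      (BC.map x (LinearMap.proj i : (I → K) →ₗ[R] K) m) := by
    intro m
    induction m using BC.ind with
    | h0 => simp only [map_zero, Finset.sum_const_zero]
    | h1 r m =>
      simp only [LinearMap.map_smul, map_bc]
      rw [← Finset.smul_sum, ← map_sum]
      congr 2
      funext j
      simp [Finset.sum_apply, Pi.single_apply]
    | h2 a b ha hb =>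
      simp only [map_add]
      rw [Finset.sum_add_distrib, ← ha, ← hb]
  rw [key m, key n]
  exact Finset.sum_congr rfl fun i _ => by rw [h i]

variable [Fintype I] [DecidableEq I]

/-- the power of a linear map -/
def powL (ψ : BC x K →ₗ[R'] BC y K') : BC x (I → K) →ₗ[R'] BC y (I → K') :=
  ∑ i : I, BC.map y (LinearMap.single R (fun _ => K') i) ∘ₗ ψ ∘ₗ BC.map x (LinearMap.proj i : (I → K) →ₗ[R] K)

theorem proj_powL (ψ : BC x K →ₗ[R'] BC y K') (i : I) (m : BC x (I → K)) :
    BC.map y (LinearMap.proj i : (I → K') →ₗ[R] K') (powL I ψ m) =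
      ψ (BC.map x (LinearMap.proj i : (I → K) →ₗ[R] K) m) := by
  rw [powL, LinearMap.sum_apply, map_sum, Finset.sum_eq_single i]
  · simp only [LinearMap.comp_apply]
    rw [BC.map_map, LinearMap.proj_comp_single_same, BC.map_id]
    rfl
  · intro j _ hj
    simp only [LinearMap.comp_apply]
    rw [BC.map_map, LinearMap.proj_comp_single_ne R _ _ _ hj.symm, BC.map_zero']
    rfl
  · intro hi
    exact absurd (Finset.mem_univ i) hi

theorem eq_powL (ψ : BC x K →ₗ[R'] BC y K') {χ : BC x (I → K) →ₗ[R'] BC y (I → K')}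
    (h : ∀ (i : I) (m : BC x (I → K)), BC.map y (LinearMap.proj i : (I → K') →ₗ[R] K') (χ m) =
      ψ (BC.map x (LinearMap.proj i : (I → K) →ₗ[R] K) m)) : χ = powL I ψ :=
  LinearMap.ext fun m => pow_ext I fun i => by rw [h, proj_powL]

theorem powL_comp (χ : BC y K' →ₗ[R'] BC z K'') (ψ : BC x K →ₗ[R'] BC y K') :
    powL I (χ ∘ₗ ψ) = powL I χ ∘ₗ powL I ψ :=
  (eq_powL I _ fun i m => by rw [LinearMap.comp_apply, proj_powL, proj_powL]; rfl).symm

theorem powL_id : powL I (LinearMap.id : BC x K →ₗ[R'] BC x K) = LinearMap.id :=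
  (eq_powL I _ fun _ _ => rfl).symm

/-- the power of an isomorphism -/
def powE (ψ : BC x K ≃ₗ[R'] BC y K') : BC x (I → K) ≃ₗ[R'] BC y (I → K') :=
  LinearEquiv.ofLinearMap (powL I ψ.toLinearMap) (powL I ψ.symm.toLinearMap)
    (by rw [← powL_comp, LinearEquiv.comp_coe, LinearEquiv.symm_trans_self]; exact powL_id I)
    (by rw [← powL_comp, LinearEquiv.comp_coe, LinearEquiv.self_trans_symm]; exact powL_id I)

theorem proj_powE (ψ : BC x K ≃ₗ[R'] BC y K') (i : I) (m : BC x (I → K)) :
    BC.map y (LinearMap.proj i : (I → K') →ₗ[R] K') (powE I ψ m) =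
      ψ (BC.map x (LinearMap.proj i : (I → K) →ₗ[R] K) m) := proj_powL I ψ.toLinearMap i m

@[simp] theorem powE_toLinearMap (ψ : BC x K ≃ₗ[R'] BC y K') : (powE I ψ).toLinearMap = powL I ψ.toLinearMap := rfl

@[simp] theorem powE_symm (ψ : BC x K ≃ₗ[R'] BC y K') : (powE I ψ).symm = powE I ψ.symm := rfl

theorem powE_refl : powE I (LinearEquiv.refl R' (BC x K)) = LinearEquiv.refl R' _ :=
  LinearEquiv.toLinearMap_injective (powL_id I)

theorem powE_trans (ψ : BC x K ≃ₗ[R'] BC y K') (χ : BC y K' ≃ₗ[R'] BC z K'') :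
    powE I (ψ.trans χ) = (powE I ψ).trans (powE I χ) :=
  LinearEquiv.toLinearMap_injective (powL_comp I χ.toLinearMap ψ.toLinearMap)

theorem powE_single (ψ : BC x K ≃ₗ[R'] BC y K') (i : I) (m : BC x K) :
    powE I ψ (BC.map x (LinearMap.single R (fun _ => K) i) m) =
      BC.map y (LinearMap.single R (fun _ => K') i) (ψ m) := by
  refine pow_ext I fun j => ?_
  rw [proj_powE, BC.map_map, BC.map_map]
  by_cases h : j = i
  · subst h
    rw [LinearMap.proj_comp_single_same, LinearMap.proj_comp_single_same, BC.map_id, BC.map_id]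
    rfl
  · rw [LinearMap.proj_comp_single_ne R _ _ _ h, LinearMap.proj_comp_single_ne R _ _ _ h, BC.map_zero',
      BC.map_zero']
    exact map_zero _

theorem pull_powL (hx : f.comp x = x') (hy : f.comp y = y') (ψ : BC x K →ₗ[R'] BC y K') :
    pull f hx hy (powL I ψ) = powL I (pull f hx hy ψ) := by
  refine eq_powL I _ fun i m => ?_
  have h1 : BC.map y' (LinearMap.proj i : (I → K') →ₗ[R] K') = pull f hy hy (BC.map y (LinearMap.proj i)) :=
    (pull_map hy _).symm
  have h2 : BC.map x' (LinearMap.proj i : (I → K) →ₗ[R] K) = pull f hx hx (BC.map x (LinearMap.proj i)) :=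
    (pull_map hx _).symm
  have h3 : BC.map y (LinearMap.proj i : (I → K') →ₗ[R] K') ∘ₗ powL I ψ =
      ψ ∘ₗ BC.map x (LinearMap.proj i : (I → K) →ₗ[R] K) := LinearMap.ext fun m => proj_powL I ψ i m
  rw [h1, h2, ← LinearMap.comp_apply, ← LinearMap.comp_apply, ← pull_comp, ← pull_comp, h3]

theorem pullE_powE (hx : f.comp x = x') (hy : f.comp y = y') (ψ : BC x K ≃ₗ[R'] BC y K') :
    pullE f hx hy (powE I ψ) = powE I (pullE f hx hy ψ) :=
  LinearEquiv.toLinearMap_injective (pull_powL I hx hy ψ.toLinearMap)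

/-- powers commute with `map g` applied componentwise -/
theorem powE_compLeft {L L' : Type*} [AddCommGroup L] [Module R L] [AddCommGroup L'] [Module R L']
    (ψ : BC x K ≃ₗ[R'] BC y K') (χ : BC x L ≃ₗ[R'] BC y L') (g : K →ₗ[R] L) (g' : K' →ₗ[R] L')
    (h : ∀ m : BC x K, χ (BC.map x g m) = BC.map y g' (ψ m)) (m : BC x (I → K)) :
    powE I χ (BC.map x (g.compLeft I) m) = BC.map y (g'.compLeft I) (powE I ψ m) := by
  refine pow_ext I fun i => ?_
  have h1 : (LinearMap.proj i : (I → L) →ₗ[R] L) ∘ₗ g.compLeft I = g ∘ₗ LinearMap.proj i := rfl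
  have h2 : (LinearMap.proj i : (I → L') →ₗ[R] L') ∘ₗ g'.compLeft I = g' ∘ₗ LinearMap.proj i := rfl
  rw [proj_powE, BC.map_map, BC.map_map, h1, h2, ← BC.map_map, ← BC.map_map, proj_powE, h]

end PowE

variable {A : NFᵒᵖ ⥤ CommRingCat.{u}}

section DescPow

variable {K : Type v} [AddCommGroup K] [Module (A.obj (op ⟨0⟩)) K] (I : Type w) [Fintype I] [DecidableEq I]

theorem tpE_powE (σ : BC (vx A ⟨1⟩ 0) K ≃ₗ[A.obj (op ⟨1⟩)] BC (vx A ⟨1⟩ 1) K) (a : NF) (i j : Fin (a.n + 1)) :
    tpE (powE I σ) a i j = powE I (tpE σ a i j) := pullE_powE I _ _ σ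

/-- the power of a descent datum -/
def Desc.pow (s : Desc A K) : Desc A (I → K) where
  σ := powE I s.σ
  coc := by
    rw [tpE_powE, tpE_powE, tpE_powE, ← powE_trans, s.coc]

theorem Desc.pow_σ (s : Desc A K) : (s.pow I).σ = powE I s.σ := rfl

theorem Desc.pow_tp (s : Desc A K) (a : NF) (i j : Fin (a.n + 1)) : (s.pow I).tp a i j = powE I (s.tp a i j) :=
  tpE_powE I s.σ a i j

end DescPow

end Groth.Agent.ResProp.EF.K959
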